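import Mathlib
import Cfsg.Agent.Mrg.Omega.ML.Ex.TIE
import Cfsg.Agent.Nodes.Coroot
import Cfsg.Agent.Nodes.TypeC
import Cfsg.Agent.Mrg.Omega.NOThree.NoOver
import Cfsg.Agent.SmallSimple.SylowMaxInter

section


/-!
# Fixed points of a Sylow 2-subgroup: THEOREM ODD (bb OMEGA #20098, helper967)

`odd_fix`: a 2-group `T` normalises `K`, `T ∩ K` is a Sylow 2-subgroup of `K` (odd index), `K` centralises `C_W(T)`.
Then `C_W(T ∩ K) = C_W(K)`. Module form and form for an elementary abelian subgroup of a group.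
-/

set_option autoImplicit false
set_option linter.style.haveILetI false

namespace Cfsg.Agent.Omega.Tools.OddFix

open Subgroup

variable {G : Type*} [Group G] {W : Type*} [AddCommGroup W] [DistribMulAction G W]

/-- the sum of a `K`-orbit -/
theorem smul_orbit_sum [Finite W] (K : Subgroup G) (w : W) [Fintype (MulAction.orbit K w)] (k : G) (hk : k ∈ K) :
    k • (∑ x : MulAction.orbit K w, (x : W)) = ∑ x : MulAction.orbit K w, (x : W) := by
  rw [Finset.smul_sum]
  exact Fintype.sum_equiv (MulAction.toPerm (⟨k, hk⟩ : K)) _ _ (fun x => rfl)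

/-- **THEOREM ODD**, one vector: `T ∩ K` fixes `w`, and `[w, T] ≤ C_W(K)`. Then `K` fixes `w`, if `K` centralises `C_W(T)`. -/
theorem odd_step [Finite W] (h2 : ∀ w : W, w + w = 0) {T K : Subgroup G} (hn : ∀ t ∈ T, ∀ k ∈ K, t * k * t⁻¹ ∈ K)
    (hodd : ¬ 2 ∣ (T ⊓ K).relIndex K) (hfix : ∀ w : W, (∀ t ∈ T, t • w = w) → ∀ k ∈ K, k • w = w) {w : W}
    (hw : ∀ t ∈ T ⊓ K, t • w = w) (hc : ∀ t ∈ T, ∀ k ∈ K, k • (t • w + w) = t • w + w) : ∀ k ∈ K, k • w = w := by
  classical
  haveI : Fintype (MulAction.orbit K w) := Fintype.ofFinite _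
  -- the orbit has odd length
  have hcard : ¬ 2 ∣ Fintype.card (MulAction.orbit K w) := by
    intro h
    apply hodd
    have e : Fintype.card (MulAction.orbit K w) = (MulAction.stabilizer K w).index := by
      rw [← Nat.card_eq_fintype_card]
      exact Nat.card_congr (MulAction.orbitEquivQuotientStabilizer K w)
    have hle : (T ⊓ K).subgroupOf K ≤ MulAction.stabilizer K w := by
      intro x hx
      rw [MulAction.mem_stabilizer_iff]
      exact hw _ (mem_subgroupOf.mp hx)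
    rw [e] at h
    exact h.trans (index_dvd_of_le hle)
  obtain ⟨s, hs⟩ : ∃ s : W, s = ∑ x : MulAction.orbit K w, (x : W) := ⟨_, rfl⟩
  have hKs : ∀ k ∈ K, k • s = s := fun k hk => by rw [hs]; exact smul_orbit_sum K w k hk
  -- `odd • c = c`
  have hoddc : ∀ c : W, Fintype.card (MulAction.orbit K w) • c = c := by
    intro c
    obtain ⟨m, hm⟩ := Nat.not_even_iff_odd.mp (fun h => hcard (even_iff_two_dvd.mp h))
    rw [hm, add_smul, mul_comm, mul_smul, two_smul, h2, smul_zero, zero_add, one_smul]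
  have key : ∀ t ∈ T, t • s = s + (t • w + w) := by
    intro t ht
    obtain ⟨c, hcd⟩ : ∃ c, c = t • w + w := ⟨_, rfl⟩
    have htw : t • w = w + c := by
      rw [hcd, add_comm (t • w) w, ← add_assoc, h2, zero_add]
    have hKc : ∀ k ∈ K, k • c = c := fun k hk => by rw [hcd]; exact hc t ht k hk
    rw [← hcd, hs, Finset.smul_sum]
    -- the permutation `x ↦ t • x - c` of the orbit
    have hmem : ∀ g : G, (∀ k ∈ K, g * k * g⁻¹ ∈ K) → ∀ d : W, g • w = w + d → (∀ k ∈ K, k • d = d) →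
        ∀ x ∈ MulAction.orbit K w, g • x + d ∈ MulAction.orbit K w := by
      rintro g hg d hd hKd _ ⟨k, rfl⟩
      refine ⟨⟨g * k * g⁻¹, hg k k.2⟩, ?_⟩
      change (g * k * g⁻¹) • w = g • ((k : G) • w) + d
      have e1 : g⁻¹ • d = g⁻¹ • w + w := by
        have : g⁻¹ • (g • w) = g⁻¹ • w + g⁻¹ • d := by rw [hd, smul_add]
        rw [inv_smul_smul] at this
        calc g⁻¹ • d = (g⁻¹ • w + g⁻¹ • w) + g⁻¹ • d := by rw [h2, zero_add]
          _ = g⁻¹ • w + w := by rw [add_assoc, ← this]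
      have e2 : g⁻¹ • w = w + g⁻¹ • d := by
        rw [e1, add_comm (g⁻¹ • w) w, ← add_assoc, h2, zero_add]
      have e3 : (k : G) • (g⁻¹ • d) = g⁻¹ • d := by
        have h5 := hKd (g * k * g⁻¹) (hg k k.2)
        have h6 := congrArg (fun z => g⁻¹ • z) h5
        simp only [mul_smul, inv_smul_smul] at h6
        exact h6
      rw [mul_smul, mul_smul, e2, smul_add, smul_add, e3, smul_inv_smul]
    have e : ∑ x : MulAction.orbit K w, (t • (x : W) + c) = ∑ x : MulAction.orbit K w, (x : W) := by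
      have hinj : Function.Injective (fun x : MulAction.orbit K w =>
          (⟨t • (x : W) + c, hmem t (hn t ht) c htw hKc x x.2⟩ : MulAction.orbit K w)) := by
        intro x x' h
        have h1 : t • (x : W) + c = t • (x' : W) + c := congrArg Subtype.val h
        exact Subtype.ext (MulAction.injective t (add_right_cancel h1))
      have hbij := Finite.injective_iff_bijective.mp hinj
      exact Fintype.sum_bijective _ hbij _ _ (fun x => rfl)
    rw [Finset.sum_add_distrib, Finset.sum_const, Finset.card_univ, hoddc] at e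
    calc ∑ x : MulAction.orbit K w, t • (x : W) = (∑ x : MulAction.orbit K w, t • (x : W)) + (c + c) := by
          rw [h2, add_zero]
      _ = (∑ x : MulAction.orbit K w, (x : W)) + c := by rw [← add_assoc, e]
  -- `w + s` is fixed by `T`
  have hws : ∀ t ∈ T, t • (w + s) = w + s := by
    intro t ht
    rw [smul_add, key t ht]
    calc t • w + (s + (t • w + w)) = (t • w + t • w) + (w + s) := by abel
      _ = w + s := by rw [h2, zero_add]
  intro k hk
  have h1 := hfix _ hws k hk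
  rw [smul_add, hKs k hk] at h1
  exact add_right_cancel h1

/-- **THEOREM ODD.** `C_W(T ∩ K) = C_W(K)`. -/
theorem odd_fix [Finite W] (h2 : ∀ w : W, w + w = 0) {T K : Subgroup G} (hT : IsPGroup 2 T)
    (hn : ∀ t ∈ T, ∀ k ∈ K, t * k * t⁻¹ ∈ K) (hodd : ¬ 2 ∣ (T ⊓ K).relIndex K)
    (hfix : ∀ w : W, (∀ t ∈ T, t • w = w) → ∀ k ∈ K, k • w = w) :
    ∀ w : W, (∀ t ∈ T ⊓ K, t • w = w) → ∀ k ∈ K, k • w = w := by
  classical
  -- the two submodules
  let C : AddSubgroup W :=
    { carrier := {w | ∀ k ∈ K, k • w = w}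
      zero_mem' := fun k _ => smul_zero k
      add_mem' := fun {a b} ha hb k hk => by rw [smul_add, ha k hk, hb k hk]
      neg_mem' := fun {a} ha k hk => by rw [smul_neg, ha k hk] }
  let D : AddSubgroup W :=
    { carrier := {w | ∀ t ∈ T ⊓ K, t • w = w}
      zero_mem' := fun k _ => smul_zero k
      add_mem' := fun {a b} ha hb k hk => by rw [smul_add, ha k hk, hb k hk]
      neg_mem' := fun {a} ha k hk => by rw [smul_neg, ha k hk] }
  have hinv : ∀ t ∈ T, ∀ k ∈ K, t⁻¹ * k * t ∈ K := by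
    intro t ht k hk
    have := hn t⁻¹ (T.inv_mem ht) k hk
    rwa [inv_inv] at this
  have hCT : ∀ t ∈ T, ∀ w ∈ C, t • w ∈ C := by
    intro t ht w hw k hk
    have h1 := hw _ (hinv t ht k hk)
    have h2' := congrArg (fun z => t • z) h1
    simp only [mul_smul, smul_inv_smul] at h2'
    exact h2'
  have hDT : ∀ t ∈ T, ∀ w ∈ D, t • w ∈ D := by
    intro t ht w hw k hk
    have hm : t⁻¹ * k * t ∈ T ⊓ K := ⟨T.mul_mem (T.mul_mem (T.inv_mem ht) hk.1) ht, hinv t ht k hk.2⟩
    have h1 := hw _ hm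
    have h2' := congrArg (fun z => t • z) h1
    simp only [mul_smul, smul_inv_smul] at h2'
    exact h2'
  by_contra hcon
  push Not at hcon
  obtain ⟨w0, hw0, k0, hk0, hne⟩ := hcon
  -- `T` acts on `(D + C) / C`, a nontrivial 2-group
  have hCD : C ≤ D := fun w hw t ht => hw t ht.2
  -- the submodule `D` as a type, `C` inside
  let CD : AddSubgroup D := C.addSubgroupOf D
  letI : MulAction T (D ⧸ CD) :=
    { smul := fun t q => QuotientAddGroup.map CD CD
        { toFun := fun w => ⟨(t : G) • (w : W), hDT t t.2 w w.2⟩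
          map_zero' := Subtype.ext (smul_zero _)
          map_add' := fun a b => Subtype.ext (smul_add _ _ _) }
        (fun w hw => hCT t t.2 w hw) q
      one_smul := by
        intro q
        obtain ⟨w, rfl⟩ := QuotientAddGroup.mk_surjective q
        change ((⟨(1 : G) • (w : W), _⟩ : D) : D ⧸ CD) = w
        congr 1
        exact Subtype.ext (one_smul _ _)
      mul_smul := by
        intro t t' q
        obtain ⟨w, rfl⟩ := QuotientAddGroup.mk_surjective q
        change ((⟨((t : G) * t') • (w : W), _⟩ : D) : D ⧸ CD) = ((⟨(t : G) • ((t' : G) • (w : W)), _⟩ : D) : D ⧸ CD)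
        congr 1
        exact Subtype.ext (mul_smul _ _ _) }
  have hsmul : ∀ (t : T) (w : D), t • (w : D ⧸ CD) = ((⟨(t : G) • (w : W), hDT t t.2 w w.2⟩ : D) : D ⧸ CD) :=
    fun t w => rfl
  have hq0 : ((⟨w0, hw0⟩ : D) : D ⧸ CD) ≠ 0 := by
    intro h
    have h1 : (⟨w0, hw0⟩ : D) ∈ CD := (QuotientAddGroup.eq_zero_iff _).mp h
    exact hne (h1 k0 hk0)
  have hcardq : 2 ∣ Nat.card (D ⧸ CD) := by
    -- every element has order dividing 2
    have ho : addOrderOf (((⟨w0, hw0⟩ : D) : D ⧸ CD)) = 2 := by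
      have h3 : Fact (Nat.Prime 2) := ⟨Nat.prime_two⟩
      apply addOrderOf_eq_prime _ hq0
      rw [two_smul, ← QuotientAddGroup.mk_add]
      rw [QuotientAddGroup.eq_zero_iff]
      have : (⟨w0, hw0⟩ : D) + ⟨w0, hw0⟩ = 0 := Subtype.ext (h2 w0)
      rw [this]
      exact CD.zero_mem
    rw [← ho]
    exact addOrderOf_dvd_natCard _
  haveI : Fact (Nat.Prime 2) := ⟨Nat.prime_two⟩
  have hz : (0 : D ⧸ CD) ∈ MulAction.fixedPoints T (D ⧸ CD) := by
    intro t
    have h1 := hsmul t 0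
    rw [QuotientAddGroup.mk_zero] at h1
    rw [h1]
    have : (⟨(t : G) • ((0 : D) : W), hDT t t.2 _ (0 : D).2⟩ : D) = 0 := Subtype.ext (smul_zero _)
    rw [this, QuotientAddGroup.mk_zero]
  obtain ⟨q, hq, hq1⟩ := hT.exists_fixed_point_of_prime_dvd_card_of_fixed_point (D ⧸ CD) hcardq hz
  obtain ⟨w, rfl⟩ := QuotientAddGroup.mk_surjective q
  have hwD := w.2
  have hmem : ∀ t ∈ T, t • (w : W) + w ∈ C := by
    intro t ht
    have h1 := hq ⟨t, ht⟩
    rw [hsmul] at h1
    have h3 := (QuotientAddGroup.eq.mp h1 : -(⟨t • (w : W), hDT t ht w w.2⟩ : D) + w ∈ CD)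
    have h4 : -(t • (w : W)) + (w : W) ∈ C := h3
    have h5 : -(t • (w : W)) = t • (w : W) := neg_eq_of_add_eq_zero_left (h2 _)
    rwa [h5] at h4
  have h6 := odd_step h2 hn hodd hfix (w := (w : W)) hwD (fun t ht => hmem t ht)
  apply hq1
  have h7 : w ∈ CD := h6
  exact ((QuotientAddGroup.eq_zero_iff w).mpr h7).symm

theorem comap_inf' {G : Type*} [Group G] (T K N : Subgroup G) :
    (T ⊓ K).subgroupOf N = T.subgroupOf N ⊓ K.subgroupOf N := by
  ext x
  simp [mem_subgroupOf]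

/-- **THEOREM ODD**, group form: `W` is an elementary abelian subgroup normalised by `T` and `K`. -/
theorem odd_fix_conj {G : Type*} [Group G] [Finite G] {W T K : Subgroup G} (hab : ∀ a ∈ W, ∀ b ∈ W, a * b = b * a)
    (hsq : ∀ a ∈ W, a * a = 1) (hTW : T ≤ normalizer (W : Set G)) (hKW : K ≤ normalizer (W : Set G)) (hT : IsPGroup 2 T)
    (hn : ∀ t ∈ T, ∀ k ∈ K, t * k * t⁻¹ ∈ K) (hodd : ¬ 2 ∣ (T ⊓ K).relIndex K)
    (hfix : ∀ w ∈ W, (∀ t ∈ T, t * w = w * t) → ∀ k ∈ K, k * w = w * k) :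
    ∀ w ∈ W, (∀ t ∈ T ⊓ K, t * w = w * t) → ∀ k ∈ K, k * w = w * k := by
  letI : CommGroup W := { (inferInstance : Group W) with mul_comm := fun a b => Subtype.ext (hab a a.2 b b.2) }
  letI : DistribMulAction (normalizer (W : Set G)) (Additive W) :=
    { smul := fun g w => Additive.ofMul ⟨(g : G) * (w.toMul : W) * (g : G)⁻¹, (mem_normalizer_iff.mp g.2 _).mp w.toMul.2⟩
      one_smul := fun w => by
        apply Additive.toMul.injective
        apply Subtype.ext
        change (1 : G) * (w.toMul : W) * (1 : G)⁻¹ = _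
        rw [one_mul, inv_one, mul_one]
      mul_smul := fun g h w => by
        apply Additive.toMul.injective
        apply Subtype.ext
        change ((g : G) * h) * (w.toMul : W) * ((g : G) * h)⁻¹ = g * (h * (w.toMul : W) * (h : G)⁻¹) * (g : G)⁻¹
        group
      smul_zero := fun g => by
        apply Additive.toMul.injective
        apply Subtype.ext
        change (g : G) * 1 * (g : G)⁻¹ = 1
        group
      smul_add := fun g a b => by
        apply Additive.toMul.injective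
        apply Subtype.ext
        change (g : G) * ((a.toMul : G) * (b.toMul : G)) * (g : G)⁻¹ =
          ((g : G) * (a.toMul : G) * (g : G)⁻¹) * ((g : G) * (b.toMul : G) * (g : G)⁻¹)
        group }
  have hsm : ∀ (g : normalizer (W : Set G)) (w : W),
      g • Additive.ofMul w = Additive.ofMul w ↔ (g : G) * w = w * g := by
    intro g w
    constructor
    · intro h
      have h1 : (g : G) * w * (g : G)⁻¹ = w := congrArg (fun z => ((Additive.toMul z : W) : G)) h
      exact mul_inv_eq_iff_eq_mul.mp h1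
    · intro h
      apply Additive.toMul.injective
      apply Subtype.ext
      change (g : G) * w * (g : G)⁻¹ = w
      rw [h, mul_inv_cancel_right]
  have hrel : ((T.subgroupOf (normalizer (W : Set G))) ⊓ (K.subgroupOf (normalizer (W : Set G)))).relIndex
      (K.subgroupOf (normalizer (W : Set G))) = (T ⊓ K).relIndex K := by
    rw [← comap_inf' T K (normalizer (W : Set G))]
    exact relIndex_subgroupOf hKW
  have h := odd_fix (G := normalizer (W : Set G)) (W := Additive W) (T := T.subgroupOf _) (K := K.subgroupOf _)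
    (fun w => by
      apply Additive.toMul.injective
      exact Subtype.ext (hsq w.toMul w.toMul.2))
    (hT.comap_of_injective _ (Subgroup.subtype_injective _))
    (fun t ht k hk => hn t ht k hk) (by rw [hrel]; exact hodd)
    (fun w hw k hk => by
      have h1 := hfix w.toMul w.toMul.2 (fun t ht => (hsm ⟨t, hTW ht⟩ w.toMul).mp (hw ⟨t, hTW ht⟩ ht)) k hk
      exact (hsm k w.toMul).mpr h1)
  intro w hw ht k hk
  exact (hsm ⟨k, hKW hk⟩ ⟨w, hw⟩).mp (h (Additive.ofMul ⟨w, hw⟩)
    (fun t ht' => (hsm t ⟨w, hw⟩).mpr (ht t ht')) ⟨k, hKW hk⟩ hk)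

end Cfsg.Agent.Omega.Tools.OddFix

end

section


/-!
# The W-part of the exact rows (T10 of the K-list "exact + low"; helper844)

`X = K T` acts on `M` (the irreducible module of `Ex X M K T A`) and on a 2-group `W` of exponent 2 with `W / C_W(K) = M` and
`C_W(T) ≤ C_W(K)` (#21287 (6), #21163 (4)).

* `WPart K T p` : this situation, `p : W → M`;
* `WPart.gl` : `C_W(T ∩ L) = C_W(L)` for `T`-invariant `L ≤ K` with `T ∩ L` Sylow in `L`;
* `WPart.moved` : `T ∩ K` moves every lift of a nontrivial `m ∈ C_M(T ∩ K)`;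
* `WPart.chi w` : the homomorphism `C_K(p w) → ker p`, `k ↦ (k w) w⁻¹`; `chi_eq`: it depends on `p w` only;
  `chi_ne`: it is nontrivial on `T ∩ K` if `T ∩ K` fixes `p w ≠ 1`; `chi_fix` : if `χ(T ∩ L) = 1` then `L` fixes `w`;
* `WPart.exists_index` : the stabiliser in `K` of `m` has a subgroup of index 2 which does not contain `T ∩ K`.
-/

set_option autoImplicit false
set_option linter.style.haveILetI false

namespace Cfsg.Agent.Omega.ML.Ex

open Subgroup

section act

variable {X : Type*} [Group X] {W : Type*} [CommGroup W] [MulDistribMulAction X W]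

/-- the action on `W` written additively -/
@[reducible] def addAct : DistribMulAction X (Additive W) where
  smul x w := Additive.ofMul (x • w.toMul)
  one_smul w := by
    change Additive.ofMul ((1 : X) • w.toMul) = w
    rw [one_smul]; rfl
  mul_smul x y w := by
    change Additive.ofMul ((x * y) • w.toMul) = Additive.ofMul (x • (y • w.toMul))
    rw [mul_smul]
  smul_zero x := by
    change Additive.ofMul (x • (1 : W)) = 0
    rw [smul_one]; rfl
  smul_add x v w := by
    change Additive.ofMul (x • (v.toMul * w.toMul)) = Additive.ofMul (x • v.toMul) + Additive.ofMul (x • w.toMul)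
    rw [smul_mul']; rfl

/-- `Tools.OddFix.odd_fix`, multiplicative form -/
theorem odd_fix_mul [Finite W] (sq : ∀ w : W, w * w = 1) {T L : Subgroup X} (hT : IsPGroup 2 T)
    (hn : ∀ t ∈ T, ∀ k ∈ L, t * k * t⁻¹ ∈ L) (hodd : ¬ 2 ∣ (T ⊓ L).relIndex L)
    (hfix : ∀ w : W, (∀ t ∈ T, t • w = w) → ∀ k ∈ L, k • w = w) {w : W} (hw : ∀ t ∈ T ⊓ L, t • w = w) :
    ∀ k ∈ L, k • w = w := by
  letI : DistribMulAction X (Additive W) := addAct
  haveI : Finite (Additive W) := ‹Finite W›
  exact Tools.OddFix.odd_fix (W := Additive W) (fun w => sq w.toMul) hT hn hodd (fun w h => hfix w.toMul h)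
    (Additive.ofMul w) hw

end act

variable {X : Type*} [Group X] {M : Type*} [Group M] [MulDistribMulAction X M] {W : Type*} [CommGroup W]
  [MulDistribMulAction X W]

/-- The W-part: `W / C_W(K) = M`, `C_W(T) ≤ C_W(K)`. -/
structure WPart (K T : Subgroup X) (p : W →* M) : Prop where
  sq : ∀ w : W, w * w = 1
  eqv : ∀ (x : X) (w : W), p (x • w) = x • p w
  surj : Function.Surjective p
  ker : ∀ w : W, p w = 1 ↔ ∀ k ∈ K, k • w = w
  fixT : ∀ w : W, (∀ t ∈ T, t • w = w) → ∀ k ∈ K, k • w = w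

namespace WPart

variable {K T : Subgroup X} {p : W →* M}

/-- **GL\*.** -/
theorem gl [Finite W] (h : WPart K T p) (hT : IsPGroup 2 T) {L : Subgroup X} (hLK : L ≤ K)
    (hn : ∀ t ∈ T, ∀ k ∈ L, t * k * t⁻¹ ∈ L) (hodd : ¬ 2 ∣ (T ⊓ L).relIndex L) {w : W}
    (hw : ∀ t ∈ T ⊓ L, t • w = w) : ∀ k ∈ L, k • w = w :=
  odd_fix_mul h.sq hT hn hodd (fun w h1 k hk => h.fixT w h1 k (hLK hk)) hw

/-- A vector fixed by `T ∩ K` lies in the kernel. -/
theorem eq_one_of_fixed [Finite W] (h : WPart K T p) (hT : IsPGroup 2 T) (hK : K.Normal)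
    (hodd : ¬ 2 ∣ (T ⊓ K).relIndex K) {w : W} (hw : ∀ t ∈ T ⊓ K, t • w = w) : p w = 1 :=
  (h.ker w).2 (h.gl hT le_rfl (fun t _ k hk => hK.conj_mem k hk t) hodd hw)

/-- **`T ∩ K` moves all lifts.** -/
theorem moved [Finite W] (h : WPart K T p) (hT : IsPGroup 2 T) (hK : K.Normal)
    (hodd : ¬ 2 ∣ (T ⊓ K).relIndex K) {w : W} (hw : p w ≠ 1) : ∃ s ∈ T ⊓ K, s • w ≠ w := by
  by_contra hcon
  push Not at hcon
  exact hw (h.eq_one_of_fixed hT hK hodd hcon)

theorem mem_ker_of (h : WPart K T p) {w : W} {x : X} (hx : x • p w = p w) : (x • w) * w⁻¹ ∈ p.ker := by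
  rw [MonoidHom.mem_ker, map_mul, h.eqv, hx, map_inv, mul_inv_cancel]

/-- `K` is trivial on the kernel. -/
theorem smul_ker (h : WPart K T p) {k : X} (hk : k ∈ K) {z : W} (hz : z ∈ p.ker) : k • z = z :=
  (h.ker z).1 hz k hk

/-- the stabiliser of `p w` in `K` -/
def st (K : Subgroup X) (m : M) : Subgroup X := K ⊓ MulAction.stabilizer X m

theorem mem_st {m : M} {x : X} : x ∈ st K m ↔ x ∈ K ∧ x • m = m := Iff.rfl

/-- **the homomorphism `χ`** -/
def chi (h : WPart K T p) (w : W) : (st K (p w) : Subgroup X) →* p.ker where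
  toFun x := ⟨((x : X) • w) * w⁻¹, h.mem_ker_of x.2.2⟩
  map_one' := Subtype.ext (by
    show (((1 : (st K (p w) : Subgroup X)) : X) • w) * w⁻¹ = 1
    rw [OneMemClass.coe_one, one_smul, mul_inv_cancel])
  map_mul' x y := Subtype.ext (by
    show (((x * y : (st K (p w) : Subgroup X)) : X) • w) * w⁻¹ = (((x : X) • w) * w⁻¹) * (((y : X) • w) * w⁻¹)
    have h1 : (x : X) • (((y : X) • w) * w⁻¹) = ((y : X) • w) * w⁻¹ := h.smul_ker x.2.1 (h.mem_ker_of y.2.2)
    have h2 : (x : X) • ((y : X) • w) = (((y : X) • w) * w⁻¹) * ((x : X) • w) := by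
      conv_lhs => rw [show (y : X) • w = (((y : X) • w) * w⁻¹) * w from by group]
      rw [smul_mul', h1]
    rw [Subgroup.coe_mul, mul_smul, h2]
    rw [mul_assoc, mul_comm])

theorem chi_apply (h : WPart K T p) (w : W) (x : (st K (p w) : Subgroup X)) :
    ((h.chi w x : p.ker) : W) = ((x : X) • w) * w⁻¹ := rfl

/-- `(x w) w⁻¹` depends on `p w` only. -/
theorem chi_eq (h : WPart K T p) {w w' : W} (hw : p w = p w') {x : X} (hx : x ∈ K) :
    (x • w) * w⁻¹ = (x • w') * w'⁻¹ := by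
  have h1 : w * w'⁻¹ ∈ p.ker := by rw [MonoidHom.mem_ker, map_mul, map_inv, hw, mul_inv_cancel]
  have h2 := h.smul_ker hx h1
  rw [smul_mul', smul_inv'] at h2
  calc (x • w) * w⁻¹ = ((x • w) * (x • w')⁻¹) * ((x • w') * w⁻¹) := by group
    _ = (w * w'⁻¹) * ((x • w') * w⁻¹) := by rw [h2]
    _ = (x • w') * w'⁻¹ := by
      rw [mul_comm (w * w'⁻¹), mul_assoc, ← mul_assoc w⁻¹ w, inv_mul_cancel, one_mul]

/-- **`χ` is nontrivial on `T ∩ K`.** -/
theorem chi_ne [Finite W] (h : WPart K T p) (hT : IsPGroup 2 T) (hK : K.Normal)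
    (hodd : ¬ 2 ∣ (T ⊓ K).relIndex K) {w : W} (hw : p w ≠ 1) : ∃ s ∈ T ⊓ K, (s • w) * w⁻¹ ≠ 1 := by
  obtain ⟨s, hs, h1⟩ := h.moved hT hK hodd hw
  exact ⟨s, hs, fun h2 => h1 (mul_inv_eq_one.1 h2)⟩

/-- If `χ(T ∩ L) = 1` then `L` fixes `w`. -/
theorem chi_fix [Finite W] (h : WPart K T p) (hT : IsPGroup 2 T) {L : Subgroup X} (hLK : L ≤ K)
    (hn : ∀ t ∈ T, ∀ k ∈ L, t * k * t⁻¹ ∈ L) (hodd : ¬ 2 ∣ (T ⊓ L).relIndex L) {w : W}
    (hw : ∀ t ∈ T ⊓ L, (t • w) * w⁻¹ = 1) : (∀ k ∈ L, k • w = w) ∧ ∀ k ∈ L, k • p w = p w := by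
  have h1 := h.gl hT hLK hn hodd (w := w) fun t ht => mul_inv_eq_one.1 (hw t ht)
  exact ⟨h1, fun k hk => by rw [← h.eqv, h1 k hk]⟩

/-- If `L ≤ K` fixes `p w`, then `[L, L]` fixes `w`. -/
theorem commutator_fix (h : WPart K T p) {L : Subgroup X} (hLK : L ≤ K) {w : W} (hL : ∀ k ∈ L, k • p w = p w) :
    ∀ k ∈ ⁅L, L⁆, k • w = w := by
  intro k hk
  have h1 : ⁅L, L⁆ ≤ MulAction.stabilizer X w := by
    rw [commutator_le]
    intro a ha b hb
    have ha' : a ∈ st K (p w) := ⟨hLK ha, hL a ha⟩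
    have hb' : b ∈ st K (p w) := ⟨hLK hb, hL b hb⟩
    let a' : (st K (p w) : Subgroup X) := ⟨a, ha'⟩
    let b' : (st K (p w) : Subgroup X) := ⟨b, hb'⟩
    have h2 : h.chi w (a' * b' * a'⁻¹ * b'⁻¹) = 1 := by
      rw [map_mul, map_mul, map_mul, map_inv, map_inv]
      refine Subtype.ext ?_
      show ((h.chi w a' : p.ker) : W) * (h.chi w b' : p.ker) * ((h.chi w a' : p.ker) : W)⁻¹ *
        ((h.chi w b' : p.ker) : W)⁻¹ = 1
      rw [mul_comm ((h.chi w a' : p.ker) : W), mul_assoc ((h.chi w b' : p.ker) : W), mul_inv_cancel, mul_one,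
        mul_inv_cancel]
    have h3 := congrArg (Subtype.val) h2
    rw [chi_apply] at h3
    exact mul_inv_eq_one.1 h3
  exact h1 hk

/-- If `L ≤ K` fixes `p w`, then every element of odd order of `L` fixes `w`. -/
theorem odd_elt_fix (h : WPart K T p) {w : W} {x : X} (hxK : x ∈ K) (hx : x • p w = p w) (ho : Odd (orderOf x)) :
    x • w = w := by
  have hx' : x ∈ st K (p w) := ⟨hxK, hx⟩
  have h1 : orderOf (h.chi w ⟨x, hx'⟩) ∣ orderOf x := by
    have h0 : orderOf (⟨x, hx'⟩ : (st K (p w) : Subgroup X)) = orderOf x := Subgroup.orderOf_mk x hx'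
    exact h0 ▸ orderOf_map_dvd (h.chi w) ⟨x, hx'⟩
  have h2 : orderOf (h.chi w ⟨x, hx'⟩) ∣ 2 :=
    orderOf_dvd_of_pow_eq_one (Subtype.ext (by rw [pow_two]; exact h.sq _))
  have h3 : h.chi w ⟨x, hx'⟩ = 1 := by
    have h4 : Nat.Coprime 2 (orderOf x) := Nat.coprime_two_left.2 ho
    exact orderOf_eq_one_iff.1 (Nat.eq_one_of_dvd_coprimes h4 h2 h1)
  have h5 := congrArg Subtype.val h3
  rw [chi_apply] at h5
  exact mul_inv_eq_one.1 h5

end WPart

end Cfsg.Agent.Omega.ML.Ex

end

section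


/-!
# Lifting facts for the W-part (OMEGA, (6''), #21921; helper115)

`p : W → M` as in `WPart K T p` (`K` trivial on `ker p`).  `FL p l` is the image in `M` of `C_W(l)`.

* `mem_FL` : for `l ∈ K` : `p w ∈ FL p l ↔ l • w = w`;
* **`inv_mem`** (INV) : `t² = 1` : `[M, t] ≤ FL p t`;
* **`opp_mem`** (OPP) : `l m = m`, `l a = a l` : `[m, a] ∈ FL p l`; (KAP) is the same: `[C_M(l), C_X(l)] ≤ FL p l`;
* **`norm_fix`** (NORM) : the norm over `T₀` of a vector is fixed by `T₀`;
* `FLs p L` : the `m` with a lift fixed by `L`; for `L ≤ K` : `p w ∈ FLs p L ↔ ∀ l ∈ L, l • w = w`; `FLs_sup`;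
* `FLs.comm` : if `L ≤ K` fixes `m` then `m ∈ FLs p ⁅L, L⁆`.
-/

set_option autoImplicit false
set_option linter.unusedSectionVars false

namespace Cfsg.Agent.Omega.FOne.Lift

open Subgroup Cfsg.Agent.Omega.ML.Ex

variable {X : Type*} [Group X] {M : Type*} [Group M] [MulDistribMulAction X M] {W : Type*} [CommGroup W]
  [MulDistribMulAction X W] {K T : Subgroup X} {p : W →* M}

/-- the fixed points of `L` on `W` -/
def cW (W : Type*) [CommGroup W] [MulDistribMulAction X W] (L : Subgroup X) : Subgroup W where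
  carrier := {w | ∀ l ∈ L, l • w = w}
  one_mem' := fun l _ => smul_one l
  mul_mem' := fun {a b} ha hb l hl => by rw [smul_mul', ha l hl, hb l hl]
  inv_mem' := fun {a} ha l hl => by rw [smul_inv', ha l hl]

theorem mem_cW {L : Subgroup X} {w : W} : w ∈ cW W L ↔ ∀ l ∈ L, l • w = w := Iff.rfl

/-- the `m ∈ M` with a lift fixed by `L` -/
def FLs (p : W →* M) (L : Subgroup X) : Subgroup M := (cW W L).map p

/-- the `m ∈ M` with a lift fixed by `l` -/
def FL (p : W →* M) (l : X) : Subgroup M := FLs p (zpowers l)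

theorem mem_cW_zpowers {l : X} {w : W} : w ∈ cW W (zpowers l) ↔ l • w = w := by
  constructor
  · intro h
    exact h l (mem_zpowers l)
  · intro h x hx
    have h1 : zpowers l ≤ MulAction.stabilizer X w := by
      rw [zpowers_le]; exact h
    exact h1 hx

theorem mem_FLs_of {L : Subgroup X} {w : W} (hw : ∀ l ∈ L, l • w = w) : p w ∈ FLs p L := ⟨w, hw, rfl⟩

theorem mem_FL_of {l : X} {w : W} (hw : l • w = w) : p w ∈ FL p l := ⟨w, mem_cW_zpowers.2 hw, rfl⟩

theorem FLs_anti {L L' : Subgroup X} (h : L ≤ L') : FLs p L' ≤ FLs p L :=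
  Subgroup.map_mono fun _ hw l hl => hw l (h hl)

section

variable (h : WPart K T p)
include h

/-- all lifts are fixed as soon as one is -/
theorem fix_of_fix {l : X} (hl : l ∈ K) {w w' : W} (hw : p w = p w') (h' : l • w' = w') : l • w = w := by
  have h1 := h.chi_eq hw hl
  rw [h', mul_inv_cancel] at h1
  exact mul_inv_eq_one.1 h1

theorem mem_FL {l : X} (hl : l ∈ K) {w : W} : p w ∈ FL p l ↔ l • w = w := by
  constructor
  · rintro ⟨w', hw', e⟩
    exact fix_of_fix h hl e.symm (mem_cW_zpowers.1 hw')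
  · exact mem_FL_of

theorem mem_FLs {L : Subgroup X} (hL : L ≤ K) {w : W} : p w ∈ FLs p L ↔ ∀ l ∈ L, l • w = w := by
  constructor
  · rintro ⟨w', hw', e⟩ l hl
    exact fix_of_fix h (hL hl) e.symm (hw' l hl)
  · exact mem_FLs_of

/-- lifts can be tested element by element -/
theorem mem_FLs_iff {L : Subgroup X} (hL : L ≤ K) {m : M} : m ∈ FLs p L ↔ ∀ l ∈ L, m ∈ FL p l := by
  obtain ⟨w, rfl⟩ := h.surj m
  rw [mem_FLs h hL]
  exact forall₂_congr fun l hl => (mem_FL h (hL hl)).symm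

theorem FLs_sup {L L' : Subgroup X} (hL : L ≤ K) (hL' : L' ≤ K) {m : M} (h1 : m ∈ FLs p L) (h2 : m ∈ FLs p L') :
    m ∈ FLs p (L ⊔ L') := by
  obtain ⟨w, rfl⟩ := h.surj m
  rw [mem_FLs h hL] at h1
  rw [mem_FLs h hL'] at h2
  rw [mem_FLs h (sup_le hL hL')]
  have h3 : L ⊔ L' ≤ MulAction.stabilizer X w := sup_le (fun l hl => h1 l hl) fun l hl => h2 l hl
  exact fun l hl => h3 hl

theorem FLs_iSup {ι : Sort*} {L : ι → Subgroup X} (hL : ∀ i, L i ≤ K) {m : M} (h1 : ∀ i, m ∈ FLs p (L i)) :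
    m ∈ FLs p (⨆ i, L i) := by
  obtain ⟨w, rfl⟩ := h.surj m
  rw [mem_FLs h (iSup_le hL)]
  have h3 : (⨆ i, L i) ≤ MulAction.stabilizer X w := iSup_le fun i l hl => (mem_FLs h (hL i)).1 (h1 i) l hl
  exact fun l hl => h3 hl

theorem smul_eq_of_mem_FL {l : X} {m : M} (hm : m ∈ FL p l) : l • m = m := by
  obtain ⟨w, hw, rfl⟩ := hm
  rw [← h.eqv, mem_cW_zpowers.1 hw]

theorem smul_eq_of_mem_FLs {L : Subgroup X} {m : M} (hm : m ∈ FLs p L) {l : X} (hl : l ∈ L) : l • m = m := by
  obtain ⟨w, hw, rfl⟩ := hm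
  rw [← h.eqv, hw l hl]

/-- conjugation -/
theorem smul_mem_FL {l g : X} {m : M} (hm : m ∈ FL p l) : g • m ∈ FL p (g * l * g⁻¹) := by
  obtain ⟨w, hw, rfl⟩ := hm
  rw [← h.eqv]
  refine mem_FL_of ?_
  rw [mul_smul, mul_smul, inv_smul_smul, mem_cW_zpowers.1 hw]

theorem smul_mem_FLs {L L' : Subgroup X} {g : X} (hg : ∀ l ∈ L', g⁻¹ * l * g ∈ L) {m : M} (hm : m ∈ FLs p L) :
    g • m ∈ FLs p L' := by
  obtain ⟨w, hw, rfl⟩ := hm
  rw [← h.eqv]
  refine mem_FLs_of fun l hl => ?_
  have h1 := hw _ (hg l hl)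
  rw [mul_smul, mul_smul, inv_smul_eq_iff] at h1
  exact h1

/-- **(INV)** an involution `t ∈ K` fixes the lifts of the vectors of `[M, t]` -/
theorem inv_mem {t : X} (h2 : t * t = 1) (m : M) : (t • m) * m⁻¹ ∈ FL p t := by
  obtain ⟨v, rfl⟩ := h.surj m
  rw [← h.eqv, ← map_inv, ← map_mul]
  refine mem_FL_of ?_
  have e : ∀ w : W, w⁻¹ = w := fun w => inv_eq_of_mul_eq_one_left (h.sq w)
  rw [smul_mul', ← mul_smul, h2, one_smul, smul_inv', e, e, mul_comm]

/-- **(OPP)** `l` fixes `m` and commutes with `a` : then `l` fixes the lifts of `[m, a]` -/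
theorem opp_mem {a l : X} (ha : ∀ z : W, p z = 1 → a • z = z) (hc : l * a = a * l) {m : M}
    (hlm : l • m = m) : (a • m) * m⁻¹ ∈ FL p l := by
  obtain ⟨v, rfl⟩ := h.surj m
  rw [← h.eqv, ← map_inv, ← map_mul]
  refine mem_FL_of ?_
  obtain ⟨c, hc1, hc2⟩ : ∃ c : W, p c = 1 ∧ l • v = c * v :=
    ⟨(l • v) * v⁻¹, by rw [map_mul, map_inv, h.eqv, hlm, mul_inv_cancel], by group⟩
  rw [smul_mul', ← mul_smul, hc, mul_smul, smul_inv', hc2, smul_mul', ha c hc1]
  rw [mul_inv_rev, mul_comm v⁻¹ c⁻¹, ← mul_assoc, mul_comm c (a • v), mul_assoc (a • v) c c⁻¹, mul_inv_cancel, mul_one]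

/-- (OPP) inside `K` -/
theorem opp_mem' {a l : X} (ha : a ∈ K) (hc : l * a = a * l) {m : M} (hlm : l • m = m) :
    (a • m) * m⁻¹ ∈ FL p l :=
  opp_mem h (fun z hz => (h.ker z).1 hz a ha) hc hlm

/-- perfect subgroups: if `L ≤ K` fixes `m` then `⁅L, L⁆` fixes its lifts -/
theorem comm_mem {L : Subgroup X} (hL : L ≤ K) {m : M} (hm : ∀ l ∈ L, l • m = m) : m ∈ FLs p ⁅L, L⁆ := by
  obtain ⟨w, rfl⟩ := h.surj m
  exact mem_FLs_of (h.commutator_fix hL hm)

/-- **the contradiction** -/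
theorem false_of_mem [Finite W] (hT : IsPGroup 2 T) (hK : K.Normal) (hodd : ¬ 2 ∣ (T ⊓ K).relIndex K) {m : M}
    (hm : m ∈ FLs p (T ⊓ K)) (h1 : m ≠ 1) : False := by
  obtain ⟨w, hw, rfl⟩ := hm
  exact h1 (h.eq_one_of_fixed hT hK hodd hw)

end

/-- **(NORM)** -/
theorem norm_fix {L : Subgroup X} [Fintype L] (v : W) : ∀ l ∈ L, l • (∏ x : L, (x : X) • v) = ∏ x : L, (x : X) • v := by
  intro l hl
  rw [Finset.smul_prod']
  refine Fintype.prod_equiv (Equiv.mulLeft (⟨l, hl⟩ : L)) _ _ fun x => ?_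
  rw [← mul_smul]
  rfl

theorem norm_mem {L : Subgroup X} [Fintype L] (v : W) : p (∏ x : L, (x : X) • v) ∈ FLs p L :=
  mem_FLs_of (norm_fix v)

end Cfsg.Agent.Omega.FOne.Lift

end

section


/-!
# The panel fact for the W-part (OMEGA, (6''), #23144; helper115)

`p : W → M` as in `WPart K T p`, `w : W`, elements of `K` fixing `p w`:

* `comm_fix` : `⁅a, b⁆` fixes `w`;
* `conj_fix` : `a w = w` implies `(g a g⁻¹) w = w`;
* **`panel_fix`** : `x` commutes with `g`, `g'` and `p w * g (p w) * g' (p w) = 1` : `x w = w`.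
-/

set_option autoImplicit false
set_option linter.unusedSectionVars false

namespace Cfsg.Agent.Omega.FOne.Lift

open Subgroup Cfsg.Agent.Omega.ML.Ex

variable {X : Type*} [Group X] {M : Type*} [Group M] [MulDistribMulAction X M] {W : Type*} [CommGroup W]
  [MulDistribMulAction X W] {K T : Subgroup X} {p : W →* M}

section

variable (h : WPart K T p)
include h

/-- the defect of an element fixing `p w` -/
theorem exists_def {x : X} {w : W} (hw : x • p w = p w) : ∃ c : W, p c = 1 ∧ x • w = c * w :=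
  ⟨(x • w) * w⁻¹, by rw [map_mul, map_inv, h.eqv, hw, mul_inv_cancel], by group⟩

theorem smul_c {x : X} (hx : x ∈ K) {c : W} (hc : p c = 1) : x • c = c := (h.ker c).1 hc x hx

theorem smul_cm {x : X} (hx : x ∈ K) {c : W} (hc : p c = 1) (v : W) : x • (c * v) = c * (x • v) := by
  rw [smul_mul', smul_c h hx hc]

theorem inv_fix' {x : X} {m : M} (hm : x • m = m) : x⁻¹ • m = m := by
  rw [inv_smul_eq_iff, hm]

/-- conjugates -/
theorem conj_fix {g a : X} (hg : g ∈ K) (ha : a ∈ K) {w : W} (hgw : g • p w = p w) (haw : a • w = w) :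
    (g * a * g⁻¹) • w = w := by
  obtain ⟨c, hc, e⟩ := exists_def h (inv_fix' h hgw)
  rw [mul_smul, mul_smul, e, smul_mul', smul_c h ha hc, haw, smul_mul', smul_c h hg hc]
  have h1 : g • w = c * w := by
    have h2 : w = g • (c * w) := by rw [← e, smul_inv_smul]
    rw [smul_mul', smul_c h hg hc] at h2
    have h3 : g • w = c⁻¹ * w := by
      rw [eq_inv_mul_iff_mul_eq, ← h2]
    rw [h3, inv_eq_of_mul_eq_one_left (h.sq c)]
  rw [h1, ← mul_assoc, h.sq, one_mul]

/-- commutators -/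
theorem comm_fix {a b : X} (ha : a ∈ K) (hb : b ∈ K) {w : W} (haw : a • p w = p w) (hbw : b • p w = p w) :
    (a * b * a⁻¹ * b⁻¹) • w = w := by
  obtain ⟨c, hc, e⟩ := exists_def h (inv_fix' h haw)
  obtain ⟨d, hd, f⟩ := exists_def h (inv_fix' h hbw)
  have ea : a • w = c * w := by
    have h2 : w = a • (c * w) := by rw [← e, smul_inv_smul]
    rw [smul_mul', smul_c h ha hc] at h2
    have h3 : a • w = c⁻¹ * w := by
      rw [eq_inv_mul_iff_mul_eq, ← h2]
    rw [h3, inv_eq_of_mul_eq_one_left (h.sq c)]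
  have fb : b • w = d * w := by
    have h2 : w = b • (d * w) := by rw [← f, smul_inv_smul]
    rw [smul_mul', smul_c h hb hd] at h2
    have h3 : b • w = d⁻¹ * w := by
      rw [eq_inv_mul_iff_mul_eq, ← h2]
    rw [h3, inv_eq_of_mul_eq_one_left (h.sq d)]
  rw [mul_smul, mul_smul, mul_smul, f, smul_cm h (K.inv_mem ha) hd, e, smul_cm h hb hd, smul_cm h hb hc, fb,
    smul_cm h ha hd, smul_cm h ha hc, smul_cm h ha hd, ea]
  calc d * (c * (d * (c * w))) = (d * d) * ((c * c) * w) := by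
        rw [mul_assoc d d, mul_assoc c c, ← mul_assoc c d, mul_comm c d, mul_assoc d c]
    _ = w := by rw [h.sq, h.sq, one_mul, one_mul]

/-- **The panel fact.** -/
theorem panel_fix {x g g' : X} (hx : x ∈ K) (hg : g ∈ K) (hg' : g' ∈ K) (hxg : x * g = g * x)
    (hxg' : x * g' = g' * x) {w : W} (hxw : x • p w = p w) (hs : p w * (g • p w) * (g' • p w) = 1) :
    x • w = w := by
  obtain ⟨c, hc, e⟩ := exists_def h hxw
  have h1 : p (w * (g • w) * (g' • w)) = 1 := by rw [map_mul, map_mul, h.eqv, h.eqv, hs]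
  have h2 := smul_c h hx h1
  have h3 : ∀ y : X, y ∈ K → x * y = y * x → x • (y • w) = c * (y • w) := by
    intro y hy hxy
    rw [← mul_smul, hxy, mul_smul, e, smul_mul', smul_c h hy hc]
  rw [smul_mul', smul_mul', e, h3 g hg hxg, h3 g' hg' hxg'] at h2
  have h4 : c * w * (c * g • w) * (c * g' • w) = (c * c) * (c * (w * g • w * g' • w)) := by
    calc c * w * (c * g • w) * (c * g' • w) = (c * w) * (c * (g • w)) * (c * (g' • w)) := rfl
      _ = (c * c) * (c * (w * g • w * g' • w)) := by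
        rw [mul_mul_mul_comm c w c (g • w), mul_mul_mul_comm (c * c) (w * g • w) c (g' • w), mul_assoc (c * c) c]
  rw [h4, h.sq, one_mul] at h2
  have h5 : c = 1 := mul_eq_right.1 h2
  rw [e, h5, one_mul]

end

end Cfsg.Agent.Omega.FOne.Lift

end

section


/-!
# The W-part of the exact rows: passage to one component (T10; helper844)

`X` acts on `W` (exponent 2) and on `M = W / ker p`, `ker p` central, `C_W(T) ≤ ker p`; `K = E F` normal in `X`,
`[E, F] = 1 = E ∩ F`, `F` perfect, `F` trivial on `N ≤ M`, `N = [N, E]`; `E ≤ Y` normalises `E` and `N`; `a : Y → X₁` and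
`q : N → M₁` are onto and compatible, `ker q = C_N(E)`, `X₁` is faithful on `M₁` (#21232 (8), #21287 (6), #21163 (4)).

* `Dat` : these data;  `F_fix` : `F` is trivial on `W₁ = p⁻¹(N)`;  `fix_of` : an element of `W₁` fixed by `T ∩ E` is fixed by `E`;
* `ker_fix` : the kernel of `a` is trivial on `W₁`;  `phi : X₁ → Aut(W₁)`;
* **`Dat.wpart`** : `WPart K₁ T₁ (q ∘ p)` for `K₁ = a(E)`, `T₁ = a(T ∩ Y)`.
-/

set_option autoImplicit false
set_option linter.style.haveILetI false

namespace Cfsg.Agent.Omega.ML.Ex.WSec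

open Subgroup Cfsg.Agent.Omega.ML.Ex

variable {X : Type*} [Group X] {M : Type*} [CommGroup M] [MulDistribMulAction X M] {W : Type*} [CommGroup W]
  [MulDistribMulAction X W] {X₁ : Type*} [Group X₁] {M₁ : Type*} [Group M₁] [MulDistribMulAction X₁ M₁]

/-- The data. -/
structure Dat (p : W →* M) (T K E F Y : Subgroup X) (N : Subgroup M) (a : Y →* X₁) (q : N →* M₁) : Prop where
  sq : ∀ w : W, w * w = 1
  eqv : ∀ (x : X) (w : W), p (x • w) = x • p w
  surj : Function.Surjective p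
  ker : ∀ w : W, p w = 1 → ∀ x : X, x • w = w
  fixT : ∀ w : W, (∀ t ∈ T, t • w = w) → p w = 1
  two : IsPGroup 2 T
  Kn : K.Normal
  sylK : ¬ 2 ∣ (T ⊓ K).relIndex K
  sylE : ¬ 2 ∣ (T ⊓ E).relIndex E
  EK : E ≤ K
  KEF : ∀ k ∈ K, ∃ e ∈ E, ∃ f ∈ F, k = e * f
  cEF : ∀ e ∈ E, ∀ f ∈ F, e * f = f * e
  iEF : ∀ e ∈ E, e ∈ F → e = 1
  pE : ⁅E, E⁆ = E
  pF : ⁅F, F⁆ = F
  FN : ∀ f ∈ F, ∀ n ∈ N, f • n = n
  NE : N ≤ closure {m | ∃ e ∈ E, ∃ n ∈ N, m = (e • n) * n⁻¹}
  EY : E ≤ Y
  YE : ∀ y ∈ Y, ∀ e ∈ E, y * e * y⁻¹ ∈ E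
  YN : ∀ y ∈ Y, ∀ n ∈ N, y • n ∈ N
  asurj : Function.Surjective a
  qsurj : Function.Surjective q
  aq : ∀ (y : Y) (n : N), q ⟨(y : X) • (n : M), YN y y.2 n n.2⟩ = a y • q n
  qker : ∀ n : N, q n = 1 ↔ ∀ e ∈ E, e • (n : M) = n
  inj : ∀ (e : X) (he : e ∈ E), a ⟨e, EY he⟩ = 1 → e = 1
  faith : ∀ x : X₁, (∀ m : M₁, x • m = m) → x = 1

/-- A perfect group trivial on `p w` fixes `w`. -/
theorem fix_of_perfect {p : W →* M} (eqv : ∀ (x : X) (w : W), p (x • w) = x • p w)
    (ker : ∀ w : W, p w = 1 → ∀ x : X, x • w = w) {L : Subgroup X} (hL : ⁅L, L⁆ = L) {w : W}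
    (h : ∀ x ∈ L, x • p w = p w) : ∀ x ∈ L, x • w = w := by
  have hk : ∀ x ∈ L, ∀ z : X, z • ((x • w) * w⁻¹) = (x • w) * w⁻¹ := by
    intro x hx z
    apply ker
    rw [map_mul, eqv, h x hx, map_inv, mul_inv_cancel]
  have h1 : ⁅L, L⁆ ≤ MulAction.stabilizer X w := by
    rw [commutator_le]
    intro x hx y hy
    -- `x w = w c`, `y w = w d`
    obtain ⟨c, hc⟩ : ∃ c, c = (x • w) * w⁻¹ := ⟨_, rfl⟩
    obtain ⟨d, hd⟩ : ∃ d, d = (y • w) * w⁻¹ := ⟨_, rfl⟩
    have hcz : ∀ z : X, z • c = c := fun z => by rw [hc]; exact hk x hx z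
    have hdz : ∀ z : X, z • d = d := fun z => by rw [hd]; exact hk y hy z
    have e1 : x • w = c * w := by rw [hc]; group
    have e2 : y • w = d * w := by rw [hd]; group
    have hci : ∀ z : X, z • c⁻¹ = c⁻¹ := fun z => by rw [smul_inv', hcz]
    have hdi : ∀ z : X, z • d⁻¹ = d⁻¹ := fun z => by rw [smul_inv', hdz]
    have e3 : x⁻¹ • w = c⁻¹ * w := by
      rw [inv_smul_eq_iff, smul_mul', hci, e1]
      group
    have e4 : y⁻¹ • w = d⁻¹ * w := by
      rw [inv_smul_eq_iff, smul_mul', hdi, e2]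
      group
    rw [MulAction.mem_stabilizer_iff, commutatorElement_def, mul_smul, mul_smul, mul_smul]
    simp only [e4, e3, e2, e1, smul_mul', hci, hdi, hdz]
    rw [mul_left_comm c⁻¹ d, inv_mul_cancel_left, inv_mul_cancel_left]
  rw [hL] at h1
  exact fun x hx => h1 hx

namespace Dat

variable {p : W →* M} {T K E F Y : Subgroup X} {N : Subgroup M} {a : Y →* X₁} {q : N →* M₁}

/-- `F` is trivial on `W₁`. -/
theorem F_fix (h : Dat p T K E F Y N a q) {w : W} (hw : p w ∈ N) : ∀ f ∈ F, f • w = w :=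
  fix_of_perfect h.eqv h.ker h.pF fun f hf => h.FN f hf _ hw

/-- `E` fixes `w` if it fixes `p w`. -/
theorem E_fix (h : Dat p T K E F Y N a q) {w : W} (hw : ∀ e ∈ E, e • p w = p w) : ∀ e ∈ E, e • w = w :=
  fix_of_perfect h.eqv h.ker h.pE hw

/-- the projection of `T ∩ K` to `E` -/
def pr (h : Dat p T K E F Y N a q) : Subgroup X where
  carrier := {e | e ∈ E ∧ ∃ f ∈ F, e * f ∈ T}
  one_mem' := ⟨one_mem _, 1, one_mem _, by rw [mul_one]; exact one_mem _⟩
  mul_mem' := by
    rintro e e' ⟨he, f, hf, h1⟩ ⟨he', f', hf', h2⟩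
    refine ⟨mul_mem he he', f * f', mul_mem hf hf', ?_⟩
    have h3 : e * e' * (f * f') = (e * f) * (e' * f') := by
      calc e * e' * (f * f') = e * (e' * f) * f' := by group
        _ = e * (f * e') * f' := by rw [h.cEF e' he' f hf]
        _ = _ := by group
    rw [h3]
    exact mul_mem h1 h2
  inv_mem' := by
    rintro e ⟨he, f, hf, h1⟩
    refine ⟨inv_mem he, f⁻¹, inv_mem hf, ?_⟩
    have h3 : e⁻¹ * f⁻¹ = (e * f)⁻¹ := by
      rw [h.cEF e he f hf, mul_inv_rev]
    rw [h3]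
    exact inv_mem h1

/-- it is `T ∩ E` -/
theorem pr_le [Finite X] (h : Dat p T K E F Y N a q) : h.pr ≤ T ⊓ E := by
  have hp : IsPGroup 2 h.pr := by
    rintro ⟨e, he, f, hf, h1⟩
    obtain ⟨k, hk⟩ := h.two ⟨e * f, h1⟩
    refine ⟨k, Subtype.ext ?_⟩
    have h2 : (e * f) ^ (2 ^ k) = 1 := congrArg Subtype.val hk
    have hc : Commute e f := h.cEF e he f hf
    rw [hc.mul_pow] at h2
    have h3 : e ^ (2 ^ k) ∈ F := by
      rw [eq_inv_of_mul_eq_one_left h2]
      exact inv_mem (pow_mem hf _)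
    exact h.iEF _ (pow_mem he _) h3
  have hle : T ⊓ E ≤ h.pr := fun e he => ⟨he.2, 1, one_mem _, by rw [mul_one]; exact he.1⟩
  have h2 : ¬ 2 ∣ (T ⊓ E).relIndex h.pr := fun h3 => h.sylE (h3.trans (by
    have h4 : h.pr ≤ E := fun e he => he.1
    exact ⟨_, (relIndex_mul_relIndex (T ⊓ E) h.pr E hle h4).symm⟩))
  obtain ⟨n, hn⟩ := hp.exists_card_eq
  have h3 : (T ⊓ E).relIndex h.pr ∣ 2 ^ n := by
    rw [← hn]
    exact relIndex_dvd_card _ _
  obtain ⟨k, -, hk⟩ := (Nat.dvd_prime_pow Nat.prime_two).1 h3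
  rw [← relIndex_eq_one]
  rcases Nat.eq_zero_or_pos k with rfl | hk0
  · exact hk
  · exact absurd (hk ▸ dvd_pow_self 2 hk0.ne') h2

/-- **An element of `W₁` fixed by `T ∩ E` is fixed by `K`.** -/
theorem fix_of [Finite X] [Finite W] (h : Dat p T K E F Y N a q) {w : W} (hw : p w ∈ N)
    (h1 : ∀ t ∈ T ⊓ E, t • w = w) : ∀ k ∈ K, k • w = w := by
  refine odd_fix_mul h.sq h.two (fun t _ k hk => h.Kn.conj_mem k hk t) h.sylK
    (fun v hv k _ => h.ker v (h.fixT v hv) k) ?_
  rintro t ⟨htT, htK⟩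
  obtain ⟨e, he, f, hf, rfl⟩ := h.KEF t htK
  have h2 : e ∈ T ⊓ E := h.pr_le ⟨he, f, hf, htT⟩
  rw [mul_smul, h.F_fix hw f hf, h1 e h2]

/-- the kernel of `a` is trivial on `N` -/
theorem ker_N (h : Dat p T K E F Y N a q) {y : Y} (hy : a y = 1) : ∀ n ∈ N, (y : X) • n = n := by
  -- `y` centralises `E`
  have hc : ∀ e ∈ E, (y : X) * e = e * y := by
    intro e he
    have h1 : (y : X) * e * (y : X)⁻¹ * e⁻¹ ∈ E := mul_mem (h.YE y y.2 e he) (inv_mem he)
    have h2 : a ⟨_, h.EY h1⟩ = 1 := by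
      have h3 : (⟨_, h.EY h1⟩ : Y) = y * ⟨e, h.EY he⟩ * y⁻¹ * (⟨e, h.EY he⟩ : Y)⁻¹ := Subtype.ext rfl
      rw [h3, map_mul, map_mul, map_mul, map_inv, map_inv, hy, one_mul, inv_one, mul_one, mul_inv_cancel]
    have h3 := h.inj _ h1 h2
    rw [mul_inv_eq_one, mul_inv_eq_iff_eq_mul] at h3
    exact h3
  -- `[n, y] ∈ C_N(E)`
  have hC : ∀ n ∈ N, ∀ e ∈ E, e • (((y : X) • n) * n⁻¹) = ((y : X) • n) * n⁻¹ := by
    intro n hn e he
    have h1 := h.aq y ⟨n, hn⟩
    rw [hy, one_smul] at h1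
    have h2 : q (⟨(y : X) • n, h.YN y y.2 n hn⟩ * (⟨n, hn⟩ : N)⁻¹) = 1 := by
      rw [map_mul, map_inv, h1, mul_inv_cancel]
    exact (h.qker _).1 h2 e he
  have hle : closure {m | ∃ e ∈ E, ∃ n ∈ N, m = (e • n) * n⁻¹} ≤
      (MulDistribMulAction.toMonoidHom M (y : X)).eqLocus (MonoidHom.id M) := by
    rw [closure_le]
    rintro _ ⟨e, he, n, hn, rfl⟩
    show (y : X) • ((e • n) * n⁻¹) = (e • n) * n⁻¹
    have h1 := hC n hn e he
    have h2 : (y : X) • (e • n) = e • ((y : X) • n) := by rw [← mul_smul, hc e he, mul_smul]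
    rw [smul_mul', smul_inv'] at h1
    rw [smul_mul', smul_inv', h2]
    have h3 : e • ((y : X) • n) = ((y : X) • n) * n⁻¹ * (e • n) := by
      rw [← h1]
      group
    rw [h3]
    have h4 : (y : X) • n * n⁻¹ * e • n * ((y : X) • n)⁻¹ = ((y : X) • n * ((y : X) • n)⁻¹) * (e • n * n⁻¹) := by
      rw [mul_assoc, mul_assoc, mul_comm n⁻¹, mul_comm (e • n) ((y : X) • n)⁻¹, mul_assoc, mul_assoc]
    rw [h4, mul_inv_cancel, one_mul]
  exact fun n hn => hle (h.NE hn)

/-- **the kernel of `a` is trivial on `W₁`** -/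
theorem ker_W (h : Dat p T K E F Y N a q) {y : Y} (hy : a y = 1) {w : W} (hw : p w ∈ N) : (y : X) • w = w := by
  have hc : ∀ e ∈ E, (y : X) * e = e * y := by
    intro e he
    have h1 : (y : X) * e * (y : X)⁻¹ * e⁻¹ ∈ E := mul_mem (h.YE y y.2 e he) (inv_mem he)
    have h2 : a ⟨_, h.EY h1⟩ = 1 := by
      have h3 : (⟨_, h.EY h1⟩ : Y) = y * ⟨e, h.EY he⟩ * y⁻¹ * (⟨e, h.EY he⟩ : Y)⁻¹ := Subtype.ext rfl
      rw [h3, map_mul, map_mul, map_mul, map_inv, map_inv, hy, one_mul, inv_one, mul_one, mul_inv_cancel]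
    have h3 := h.inj _ h1 h2
    rw [mul_inv_eq_one, mul_inv_eq_iff_eq_mul] at h3
    exact h3
  have hN := h.ker_N hy
  -- the subgroup of the elements fixed by `y`
  let V : Subgroup W := (MulDistribMulAction.toMonoidHom W (y : X)).eqLocus (MonoidHom.id W)
  have hV : ∀ v, v ∈ V ↔ (y : X) • v = v := fun _ => Iff.rfl
  have h1 : closure {m | ∃ e ∈ E, ∃ n ∈ N, m = (e • n) * n⁻¹} ≤ V.map p := by
    rw [closure_le]
    rintro _ ⟨e, he, n, hn, rfl⟩
    obtain ⟨v, rfl⟩ := h.surj n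
    refine ⟨(e • v) * v⁻¹, ?_, by rw [map_mul, h.eqv, map_inv]⟩
    show (y : X) • ((e • v) * v⁻¹) = (e • v) * v⁻¹
    have h2 : p (((y : X) • v) * v⁻¹) = 1 := by rw [map_mul, h.eqv, hN _ hn, map_inv, mul_inv_cancel]
    have h3 := h.ker _ h2 e
    have h4 : (y : X) • (e • v) = e • ((y : X) • v) := by rw [← mul_smul, hc e he, mul_smul]
    rw [smul_mul', smul_inv'] at h3
    rw [smul_mul', smul_inv', h4]
    have h5 : e • ((y : X) • v) = ((y : X) • v) * v⁻¹ * (e • v) := by
      rw [← h3]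
      group
    rw [h5]
    have h6 : (y : X) • v * v⁻¹ * e • v * ((y : X) • v)⁻¹ = ((y : X) • v * ((y : X) • v)⁻¹) * (e • v * v⁻¹) := by
      rw [mul_assoc, mul_assoc, mul_comm v⁻¹, mul_comm (e • v) ((y : X) • v)⁻¹, mul_assoc, mul_assoc]
    rw [h6, mul_inv_cancel, one_mul]
  obtain ⟨v, hv, hvw⟩ := h1 (h.NE hw)
  have h2 : p (w * v⁻¹) = 1 := by rw [map_mul, map_inv, hvw, mul_inv_cancel]
  have h3 := h.ker _ h2 (y : X)
  have h4 : w = (w * v⁻¹) * v := by group
  rw [h4, smul_mul', h3, (hV v).1 hv]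

/-- the action of `Y` on `W₁` -/
def act (h : Dat p T K E F Y N a q) : Y →* MulAut (N.comap p) where
  toFun y :=
    { toFun := fun w => ⟨(y : X) • (w : W), by
        rw [mem_comap, h.eqv]
        exact h.YN y y.2 _ w.2⟩
      invFun := fun w => ⟨(y : X)⁻¹ • (w : W), by
        rw [mem_comap, h.eqv]
        exact h.YN _ (inv_mem y.2) _ w.2⟩
      left_inv := fun w => Subtype.ext (inv_smul_smul (y : X) (w : W))
      right_inv := fun w => Subtype.ext (smul_inv_smul (y : X) (w : W))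
      map_mul' := fun v w => Subtype.ext (smul_mul' (y : X) (v : W) w) }
  map_one' := by
    ext w
    exact one_smul X (w : W)
  map_mul' x y := by
    ext w
    exact mul_smul (x : X) (y : X) (w : W)

theorem act_apply (h : Dat p T K E F Y N a q) (y : Y) (w : N.comap p) :
    ((h.act y w : N.comap p) : W) = (y : X) • (w : W) := rfl

theorem ker_le (h : Dat p T K E F Y N a q) : a.ker ≤ h.act.ker := by
  intro y hy
  rw [MonoidHom.mem_ker]
  ext w
  exact h.ker_W hy w.2

/-- the action of `X₁` on `W₁` -/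
noncomputable def phi (h : Dat p T K E F Y N a q) : X₁ →* MulAut (N.comap p) :=
  a.liftOfSurjective h.asurj ⟨h.act, h.ker_le⟩

theorem phi_apply (h : Dat p T K E F Y N a q) (y : Y) : h.phi (a y) = h.act y := by
  have := MonoidHom.liftOfRightInverse_comp_apply a _ (Function.rightInverse_surjInv h.asurj) ⟨h.act, h.ker_le⟩ y
  exact this

/-- the action -/
@[reducible] noncomputable def inst (h : Dat p T K E F Y N a q) : MulDistribMulAction X₁ (N.comap p) :=
  MulDistribMulAction.compHom _ h.phi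

/-- `W₁ → M₁` -/
def pi (p : W →* M) {N : Subgroup M} (q : N →* M₁) : (N.comap p) →* M₁ where
  toFun w := q ⟨p w, w.2⟩
  map_one' := by
    have : (⟨p ((1 : N.comap p) : W), (1 : N.comap p).2⟩ : N) = 1 := Subtype.ext (map_one p)
    rw [this, map_one]
  map_mul' v w := by
    have : (⟨p ((v * w : N.comap p) : W), (v * w).2⟩ : N) = ⟨p v, v.2⟩ * ⟨p w, w.2⟩ := Subtype.ext (map_mul p _ _)
    rw [this, map_mul]

theorem pi_apply (w : N.comap p) : pi p q w = q ⟨p w, w.2⟩ := rfl

/-- **The W-part of one component.** -/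
theorem wpart [Finite X] [Finite W] (h : Dat p T K E F Y N a q) :
    letI := h.inst
    WPart ((E.subgroupOf Y).map a) (((T ⊓ Y).subgroupOf Y).map a) (pi p q) := by
  letI := h.inst
  have hsm : ∀ (y : Y) (w : N.comap p), ((a y • w : N.comap p) : W) = (y : X) • (w : W) := by
    intro y w
    show ((h.phi (a y) w : N.comap p) : W) = _
    rw [h.phi_apply, h.act_apply]
  refine ⟨fun w => Subtype.ext (h.sq w), ?_, ?_, ?_, ?_⟩
  · intro x w
    obtain ⟨y, rfl⟩ := h.asurj x
    have h1 : (⟨p ((a y • w : N.comap p) : W), (a y • w : N.comap p).2⟩ : N) =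
        ⟨(y : X) • p w, h.YN y y.2 _ w.2⟩ := Subtype.ext (by
      show p ((a y • w : N.comap p) : W) = (y : X) • p w
      rw [hsm, h.eqv])
    rw [pi_apply, h1, h.aq y ⟨p w, w.2⟩, pi_apply]
  · intro m
    obtain ⟨⟨n, hn⟩, rfl⟩ := h.qsurj m
    obtain ⟨w, rfl⟩ := h.surj n
    exact ⟨⟨w, hn⟩, rfl⟩
  · intro w
    rw [pi_apply, h.qker]
    constructor
    · rintro h1 _ ⟨y, hy, rfl⟩
      apply Subtype.ext
      rw [hsm]
      exact h.E_fix h1 _ hy
    · intro h1 e he
      have h2 := congrArg Subtype.val (h1 (a ⟨e, h.EY he⟩) ⟨⟨e, h.EY he⟩, he, rfl⟩)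
      rw [hsm] at h2
      rw [← h.eqv]
      exact congrArg p h2
  · intro w hw
    have h1 : ∀ t ∈ T ⊓ E, t • (w : W) = w := by
      intro t ht
      have h2 := congrArg Subtype.val (hw (a ⟨t, h.EY ht.2⟩) ⟨⟨t, h.EY ht.2⟩, ⟨ht.1, h.EY ht.2⟩, rfl⟩)
      rw [hsm] at h2
      exact h2
    rintro _ ⟨y, hy, rfl⟩
    apply Subtype.ext
    rw [hsm]
    exact h.fix_of w.2 h1 y (h.EK hy)

end Dat

end Cfsg.Agent.Omega.ML.Ex.WSec

end

section


/-!
# A K-free kill with the W-part (helper325)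

`X` acts faithfully on `M` (exponent 2), `h : WPart K T p`.  For `z ∈ K` put `GG p z := p (C_W(z))`: the vectors of
`C_M(z)` all of whose lifts are fixed by `z`.

* `smul_lift`      : `z` fixes all the lifts of the elements of `GG p z`;
* `exists_not_mem` : LEMMA Z: if `z ≠ 1` is central in `T` then `GG p z ≠ C_M(z)`;
* `mem_comm`       : if `z = [a, b]`, `a, b ∈ K` then `C_M(a) ∩ C_M(b) ≤ GG p z`;
* `sub_mem`        : if `g ∈ K` commutes with `z` then `[C_M(z), g] ≤ GG p z`;
* **`false_of`**   : no `z, a ∈ A`, `g, a ∈ K` with `g³ = 1`, `[g,z] = 1`, `[a, a^g] = z`, `|C_M(z)| ≤ 2 |C_M(A)|`;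
* `false_of_index` : the same `z, a, g` : not all of `z, a, az` have `|M : C_M(-)| ≤ 2`;
* `quad_of`        : if `C_M(b) = C_M(A)` for an involution `b ∈ A`, `A` abelian, then `A` is quadratic.
-/

set_option autoImplicit false

namespace Cfsg.Agent.Omega.ML.Ex.KillZ

open Subgroup Cfsg.Agent.ClassTwoFusion.Quad Cfsg.Agent.Omega.ML.Ex.TIE

section comm

variable {M : Type*} [Group M]

theorem inv_self (sq : ∀ m : M, m * m = 1) (m : M) : m⁻¹ = m := inv_eq_of_mul_eq_one_left (sq m)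

theorem comm_of (sq : ∀ m : M, m * m = 1) (x y : M) : x * y = y * x := by
  calc x * y = (x * y)⁻¹ := (inv_self sq _).symm
    _ = y⁻¹ * x⁻¹ := mul_inv_rev _ _
    _ = y * x := by rw [inv_self sq, inv_self sq]

/-- a subgroup of index at most 2 -/
theorem mul_mem_of_card [Finite M] {F V : Subgroup M} (hFV : F ≤ V) (hc : Nat.card V ≤ 2 * Nat.card F) {x y : M}
    (hx : x ∈ V) (hy : y ∈ V) (hx' : x ∉ F) (hy' : y ∉ F) : x * y ∈ F := by
  have h1 : F.relIndex V * Nat.card F = Nat.card V := by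
    have := relIndex_mul_relIndex (⊥ : Subgroup M) F V bot_le hFV
    rw [relIndex_bot_left, relIndex_bot_left] at this
    rw [mul_comm]; exact this
  have h2 : F.relIndex V ≤ 2 := by
    rw [← h1] at hc
    exact Nat.le_of_mul_le_mul_right hc Nat.card_pos
  have h3 : F.relIndex V ≠ 0 := by
    intro h0
    rw [h0, zero_mul] at h1
    exact absurd h1.symm Nat.card_pos.ne'
  have h4 : F.relIndex V ≠ 1 := fun h5 => hx' (relIndex_eq_one.1 h5 hx)
  have h5 : (F.subgroupOf V).index = 2 := by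
    change F.relIndex V = 2
    omega
  have h6 := (mul_mem_iff_of_index_two h5 (a := ⟨x, hx⟩) (b := ⟨y, hy⟩)).2
    (by rw [mem_subgroupOf, mem_subgroupOf]; exact iff_of_false hx' hy')
  rw [mem_subgroupOf] at h6
  exact h6

end comm

variable {X : Type*} [Group X] {M : Type*} [Group M] [MulDistribMulAction X M] {W : Type*} [CommGroup W]
  [MulDistribMulAction X W] {K T : Subgroup X} {p : W →* M}

/-- the image of `C_W(z)` -/
def GG (p : W →* M) (z : X) : Subgroup M := (cv W ({z} : Set X)).map p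

theorem smul_lift (h : WPart K T p) {z : X} (hz : z ∈ K) {w : W} (hw : p w ∈ GG p z) : z • w = w := by
  obtain ⟨w', hw', he⟩ := hw
  rw [SetLike.mem_coe, mem_cv_singleton] at hw'
  have h1 := h.chi_eq (w := w) (w' := w') he.symm hz
  rw [hw', mul_inv_cancel] at h1
  exact mul_inv_eq_one.1 h1

omit [MulDistribMulAction X M] in
theorem mem_GG {z : X} {w : W} (hw : z • w = w) : p w ∈ GG p z :=
  ⟨w, mem_cv_singleton.2 hw, rfl⟩

/-- **LEMMA Z.** -/
theorem exists_not_mem [Finite W] (h : WPart K T p) (hT : IsPGroup 2 T)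
    (faith : ∀ x : X, (∀ m : M, x • m = m) → x = 1) {z : X} (hzK : z ∈ K) (hz1 : z ≠ 1)
    (hzT : ∀ t ∈ T, t * z = z * t) : ∃ v : M, z • v = v ∧ v ∉ GG p z := by
  by_contra hcon
  push Not at hcon
  -- the commutator subgroup `[W, z]`
  let I : Subgroup W :=
    { carrier := {u | ∃ w : W, (z • w) * w⁻¹ = u}
      one_mem' := ⟨1, by rw [smul_one, one_mul, inv_one]⟩
      mul_mem' := by
        rintro _ _ ⟨w, rfl⟩ ⟨w', rfl⟩
        refine ⟨w * w', ?_⟩
        rw [smul_mul', mul_inv]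
        exact mul_mul_mul_comm _ _ _ _
      inv_mem' := by
        rintro _ ⟨w, rfl⟩
        refine ⟨w⁻¹, ?_⟩
        rw [smul_inv', mul_inv] }
  have hI : ∀ t ∈ T, ∀ u ∈ I, t • u ∈ I := by
    rintro t ht _ ⟨w, rfl⟩
    refine ⟨t • w, ?_⟩
    rw [smul_mul', smul_inv', ← mul_smul, ← mul_smul, hzT t ht]
  have hne : I ≠ ⊥ := by
    intro h1
    apply hz1
    refine faith z fun m => ?_
    obtain ⟨w, rfl⟩ := h.surj m
    have h2 : (z • w) * w⁻¹ ∈ I := ⟨w, rfl⟩
    rw [h1, mem_bot, mul_inv_eq_one] at h2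
    rw [← h.eqv, h2]
  -- a fixed point
  obtain ⟨u, ⟨w, rfl⟩, hu1, hu⟩ : ∃ u ∈ I, u ≠ 1 ∧ ∀ t ∈ T, t • u = u := by
    have h2f : Fact (Nat.Prime 2) := ⟨Nat.prime_two⟩
    let _ : MulDistribMulAction T I :=
      { smul := fun t w => ⟨(t : X) • (w : W), hI t t.2 w w.2⟩
        one_smul := fun w => Subtype.ext (one_smul X (w : W))
        mul_smul := fun c d w => Subtype.ext (mul_smul (c : X) d (w : W))
        smul_mul := fun c u w => Subtype.ext (smul_mul' (c : X) (u : W) w)
        smul_one := fun c => Subtype.ext (smul_one (c : X)) }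
    have h1 : IsPGroup 2 I := fun w => ⟨1, by rw [pow_one, pow_two]; exact Subtype.ext (h.sq w)⟩
    have h5 : 2 ∣ Nat.card I := by
      obtain ⟨k, hk⟩ := IsPGroup.iff_card.1 h1
      rw [hk]
      refine dvd_pow_self 2 ?_
      rintro rfl
      rw [pow_zero, card_eq_one] at hk
      exact hne hk
    obtain ⟨b, hb, hb1⟩ :=
      hT.exists_fixed_point_of_prime_dvd_card_of_fixed_point I h5 (a := (1 : I)) (fun c => smul_one c)
    exact ⟨b, b.2, fun h => hb1 (Subtype.ext h.symm), fun t ht => congrArg Subtype.val (hb ⟨t, ht⟩)⟩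
  have h1 : p ((z • w) * w⁻¹) = 1 := (h.ker _).2 (h.fixT _ hu)
  rw [map_mul, map_inv, mul_inv_eq_one, h.eqv] at h1
  have h2 := smul_lift h hzK (hcon _ h1)
  exact hu1 (by rw [h2, mul_inv_cancel])

/-- **commutators** -/
theorem mem_comm (h : WPart K T p) {a b z : X} (ha : a ∈ K) (hb : b ∈ K) (hz : a * b * a⁻¹ * b⁻¹ = z) {v : M}
    (hav : a • v = v) (hbv : b • v = v) : v ∈ GG p z := by
  obtain ⟨w, rfl⟩ := h.surj v
  set L : Subgroup X := closure {a, b} with hL
  have haL : a ∈ L := subset_closure (by simp)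
  have hbL : b ∈ L := subset_closure (by simp)
  have hLK : L ≤ K := by
    rw [hL, closure_le]
    rintro x (rfl | hx)
    · exact ha
    · rw [Set.mem_singleton_iff.1 hx]; exact hb
  have hfix : ∀ k ∈ L, k • p w = p w := by
    have h1 : L ≤ MulAction.stabilizer X (p w) := by
      rw [hL, closure_le]
      rintro x (rfl | hx)
      · exact hav
      · rw [Set.mem_singleton_iff.1 hx]; exact hbv
    exact fun k hk => h1 hk
  refine mem_GG (h.commutator_fix hLK hfix z ?_)
  rw [← hz]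
  exact commutator_mem_commutator haL hbL

/-- `[C_M(z), g] ≤ GG` -/
theorem sub_mem (h : WPart K T p) {g z : X} (hg : g ∈ K) (hzK : z ∈ K) (hgz : g * z = z * g) {v : M}
    (hv : z • v = v) : (g • v) * v⁻¹ ∈ GG p z := by
  obtain ⟨w, rfl⟩ := h.surj v
  have h1 : p ((g • w) * w⁻¹) = (g • p w) * (p w)⁻¹ := by rw [map_mul, h.eqv, map_inv]
  rw [← h1]
  refine mem_GG ?_
  have h2 : (z • w) * w⁻¹ ∈ p.ker := h.mem_ker_of hv
  have h3 : g • ((z • w) * w⁻¹) = (z • w) * w⁻¹ := h.smul_ker hg h2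
  rw [smul_mul', smul_inv', ← mul_smul, hgz, mul_smul] at h3
  rw [smul_mul', smul_inv']
  have h4 : z • (g • w) = (z • w) * w⁻¹ * (g • w) := by rw [← h3, inv_mul_cancel_right]
  rw [h4, mul_comm (z • w * w⁻¹) (g • w), mul_assoc (g • w)]
  congr 1
  rw [mul_comm (z • w) w⁻¹, mul_assoc, mul_inv_cancel, mul_one]

/-- **The kill.** -/
theorem false_of [Finite M] [Finite W] (sq : ∀ m : M, m * m = 1) (faith : ∀ x : X, (∀ m : M, x • m = m) → x = 1)
    (h : WPart K T p) (hT : IsPGroup 2 T) {A : Subgroup X} {z a g : X} (zA : z ∈ A) (zK : z ∈ K) (z1 : z ≠ 1)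
    (zT : ∀ t ∈ T, t * z = z * t) (aA : a ∈ A) (aK : a ∈ K)
    (quad : ∀ m : M, (a • m) * m⁻¹ ∈ cv M (A : Set X)) (gK : g ∈ K) (gz : g * z = z * g) (g3 : g * g * g = 1)
    (hcom : a * (g * a * g⁻¹) * a⁻¹ * (g * a * g⁻¹)⁻¹ = z)
    (hc : Nat.card (cv M ({z} : Set X)) ≤ 2 * Nat.card (cv M (A : Set X))) : False := by
  set F := cv M (A : Set X) with hF
  set V := cv M ({z} : Set X) with hV
  have hFV : F ≤ V := cv_anti (by simpa using zA)
  have hgV : ∀ v ∈ V, g • v ∈ V := by
    intro v hv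
    rw [hV, mem_cv_singleton] at hv ⊢
    rw [← mul_smul, ← gz, mul_smul, hv]
  have hg3 : ∀ v : M, g • (g • (g • v)) = v := by
    intro v
    rw [← mul_smul, ← mul_smul, g3, one_smul]
  have hab : ∀ x y : M, x * y = y * x := comm_of sq
  -- `F ∩ g F ≤ G`
  have hP2 : ∀ v ∈ F, g⁻¹ • v ∈ F → v ∈ GG p z := by
    intro v hv hv'
    refine mem_comm h aK (K.mul_mem (K.mul_mem gK aK) (K.inv_mem gK)) hcom (hv a aA) ?_
    rw [mul_smul, mul_smul, hv' a aA, smul_inv_smul]
  have hP2' : ∀ v ∈ F, g • v ∈ F → g • v ∈ GG p z := by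
    intro v hv hv'
    exact hP2 _ hv' (by rw [inv_smul_smul]; exact hv)
  -- `g F ≠ F`
  obtain ⟨m, hm, hgm⟩ : ∃ m ∈ F, g • m ∉ F := by
    by_contra hcon
    push Not at hcon
    have hst : ∀ m, m ∈ F ↔ g • m ∈ F := by
      intro m
      refine ⟨fun hm => hcon m hm, fun hm => ?_⟩
      rw [← hg3 m]
      exact hcon _ (hcon _ hm)
    have h1 : a ∈ (EE F : Subgroup X) := ⟨fun m hm => hm a aA, quad⟩
    have h2 : g * a * g⁻¹ ∈ (EE F : Subgroup X) := smul_mem_EE hst h1
    have h3 := EE_sq sq faith h1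
    have h4 := EE_sq sq faith h2
    have h5 := EE_sq sq faith (mul_mem h1 h2)
    have h6 : a⁻¹ = a := inv_eq_of_mul_eq_one_left h3
    have h7 : (g * a * g⁻¹)⁻¹ = g * a * g⁻¹ := inv_eq_of_mul_eq_one_left h4
    apply z1
    rw [← hcom, h6, h7, mul_assoc (a * (g * a * g⁻¹)) a]
    exact h5
  have hmm : ∀ x y : M, x ∈ V → y ∈ V → x ∉ F → y ∉ F → x * y ∈ F := fun x y hx hy hx' hy' =>
    mul_mem_of_card hFV hc hx hy hx' hy'
  have hG1 : ∀ v ∈ V, (g • v) * v⁻¹ ∈ GG p z := fun v hv => sub_mem h gK zK gz (mem_cv_singleton.1 hv)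
  by_cases hFG : F ≤ GG p z
  · obtain ⟨v, hv, hvG⟩ := exists_not_mem h hT faith zK z1 zT
    have hvV : v ∈ V := mem_cv_singleton.2 hv
    have h1 : v * (g • m) ∈ F := hmm _ _ hvV (hgV m (hFV hm)) (fun h1 => hvG (hFG h1)) hgm
    have h2 : g • m ∈ GG p z := by
      have h3 := mul_mem (hG1 m (hFV hm)) (hFG hm)
      rwa [inv_mul_cancel_right] at h3
    apply hvG
    have h3 := mul_mem (hFG h1) (inv_mem h2)
    rwa [mul_inv_cancel_right] at h3
  · obtain ⟨f, hf, hfG⟩ := SetLike.not_le_iff_exists.1 hFG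
    have hfV := hFV hf
    have h1 : g • f ∉ F := by
      intro h2
      apply hfG
      have h3 := mul_mem (inv_mem (hG1 f hfV)) (hP2' f hf h2)
      rwa [mul_inv_rev, inv_inv, inv_mul_cancel_right] at h3
    have h2 : g • (g • f) ∉ F := by
      intro h3
      apply hfG
      have h4 := hP2' (g • (g • f)) h3 (by rw [hg3]; exact hf)
      rwa [hg3] at h4
    have hV1 := hgV f hfV
    have hV2 := hgV _ hV1
    have h3 : (g • f) * (g • (g • f)) ∈ F := hmm _ _ hV1 hV2 h1 h2
    have h4 : f * ((g • f) * (g • (g • f))) ∈ F := F.mul_mem hf h3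
    have h5 : g • (f * ((g • f) * (g • (g • f)))) = f * ((g • f) * (g • (g • f))) := by
      rw [smul_mul', smul_mul', hg3, ← mul_assoc, hab]
    have h6 : f * ((g • f) * (g • (g • f))) ∈ GG p z := by
      have := hP2' _ h4 (by rw [h5]; exact h4)
      rwa [h5] at this
    have h7 : (g • f) * (g • (g • f)) ∈ GG p z := by
      have h8 := hG1 _ hV1
      have h9 : (g • f) * (g • (g • f)) = (g • (g • f)) * (g • f)⁻¹ := by
        rw [inv_self sq (g • f), hab]
      rw [h9]
      exact h8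
    apply hfG
    have h8 := mul_mem h6 (inv_mem h7)
    rwa [mul_inv_cancel_right] at h8

/-- `z`, `a`, `a z` are not all transvections. -/
theorem false_of_index [Finite M] (sq : ∀ m : M, m * m = 1) (faith : ∀ x : X, (∀ m : M, x • m = m) → x = 1)
    {z a g : X} (z1 : z ≠ 1) (zz : z * z = 1) (aa : a * a = 1) (az : a * z = z * a) (gz : g * z = z * g)
    (hcom : a * (g * a * g⁻¹) * a⁻¹ * (g * a * g⁻¹)⁻¹ = z)
    (h1 : (cv M ({z} : Set X)).index ≤ 2) (h2 : (cv M ({a} : Set X)).index ≤ 2)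
    (h3 : (cv M ({a * z} : Set X)).index ≤ 2) : False := by
  have hab : ∀ x y : M, x * y = y * x := comm_of sq
  have hinv : ∀ x : M, x⁻¹ = x := inv_self sq
  -- commuting is impossible
  have hne : ∀ b : X, b = g * a * g⁻¹ → a * b = b * a → False := by
    intro b hb h4
    apply z1
    rw [← hcom, ← hb, h4, mul_inv_cancel_right, mul_inv_cancel]
  -- index two
  have hmul : ∀ x : X, (cv M ({x} : Set X)).index ≤ 2 → ∀ m m' : M, x • m ≠ m → x • m' ≠ m' →
      x • (m * m') = m * m' := by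
    intro x hx m m' hm hm'
    have h4 : (cv M ({x} : Set X)).index ≠ 0 := index_ne_zero_of_finite
    have h5 : (cv M ({x} : Set X)).index ≠ 1 := by
      intro h6
      rw [index_eq_one] at h6
      exact hm (mem_cv_singleton.1 (h6 ▸ mem_top m))
    have h6 : (cv M ({x} : Set X)).index = 2 := by omega
    have h7 := (mul_mem_iff_of_index_two h6 (a := m) (b := m')).2
      (by rw [mem_cv_singleton, mem_cv_singleton]; exact iff_of_false hm hm')
    exact mem_cv_singleton.1 h7
  -- the centre of a transvection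
  have hcen : ∀ x : X, (cv M ({x} : Set X)).index ≤ 2 → ∀ m m' : M, x • m ≠ m → x • m' ≠ m' →
      (x • m) * m⁻¹ = (x • m') * m'⁻¹ := by
    intro x hx m m' hm hm'
    have h4 := hmul x hx m m' hm hm'
    rw [smul_mul'] at h4
    rw [hinv, hinv]
    calc (x • m) * m = ((x • m) * (x • m')) * (x • m') * m := by
          rw [mul_assoc (x • m), sq, mul_one]
      _ = (m * m') * (x • m') * m := by rw [h4]
      _ = m * (m' * (x • m')) * m := by rw [mul_assoc m]
      _ = (m' * (x • m')) * m * m := by rw [hab m]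
      _ = (x • m') * m' * (m * m) := by rw [hab m', mul_assoc]
      _ = (x • m') * m' := by rw [sq, mul_one]
  by_cases hcase : ∀ m : M, z • m = m → a • m = m
  · -- the same axis
    have hax : ∀ m : M, a • m = m ↔ z • m = m := by
      have h4 : cv M ({z} : Set X) ≤ cv M ({a} : Set X) := fun m hm =>
        mem_cv_singleton.2 (hcase m (mem_cv_singleton.1 hm))
      have h5 : cv M ({z} : Set X) = cv M ({a} : Set X) := by
        have h6 : (cv M ({a} : Set X)).index ≠ 1 := by
          intro h7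
          rw [index_eq_one] at h7
          apply z1
          have h8 : a = 1 := faith a fun m => mem_cv_singleton.1 (h7 ▸ mem_top m)
          rw [← hcom, h8]
          group
        refine Subgroup.eq_of_le_of_card_ge h4 ?_
        have h8 := (cv M ({z} : Set X)).card_mul_index
        have h9 := (cv M ({a} : Set X)).card_mul_index
        have h10 : (cv M ({a} : Set X)).index ≠ 0 := index_ne_zero_of_finite
        have h11 : (cv M ({a} : Set X)).index = 2 := by omega
        rw [h11] at h9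
        have h12 : Nat.card (cv M ({z} : Set X)) * (cv M ({z} : Set X)).index ≤
            Nat.card (cv M ({z} : Set X)) * 2 := Nat.mul_le_mul_left _ h1
        omega
      intro m
      rw [← mem_cv_singleton, ← mem_cv_singleton, h5]
    set V := cv M ({z} : Set X) with hV
    have hst : ∀ m, m ∈ V ↔ g • m ∈ V := by
      intro m
      rw [hV, mem_cv_singleton, mem_cv_singleton, ← mul_smul, ← gz, mul_smul, smul_left_cancel_iff]
    have h4 : a ∈ (EE V : Subgroup X) := by
      refine ⟨fun m hm => (hax m).2 (mem_cv_singleton.1 hm), fun m => ?_⟩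
      rw [hV, mem_cv_singleton, ← hax, smul_mul', smul_inv', ← mul_smul, aa, one_smul, hinv, hinv, hab]
    have h5 := smul_mem_EE hst h4
    have h6 := EE_sq sq faith h4
    have h7 := EE_sq sq faith h5
    have h8 := EE_sq sq faith (mul_mem h4 h5)
    refine hne _ rfl ?_
    have h9 : a⁻¹ = a := inv_eq_of_mul_eq_one_left h6
    have h10 : (g * a * g⁻¹)⁻¹ = g * a * g⁻¹ := inv_eq_of_mul_eq_one_left h7
    have h11 : (a * (g * a * g⁻¹))⁻¹ = a * (g * a * g⁻¹) := inv_eq_of_mul_eq_one_left h8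
    rw [← h11, mul_inv_rev, h9, h10]
  · -- the same centre
    push Not at hcase
    obtain ⟨m₁, hm₁, hm₁'⟩ := hcase
    -- an element moved by `z`
    obtain ⟨m₂, hm₂⟩ : ∃ m : M, z • m ≠ m := by
      by_contra hcon
      push Not at hcon
      exact z1 (faith z hcon)
    -- some `m` with `a z m = m`, `z m ≠ m`
    obtain ⟨m, hm, hm'⟩ : ∃ m : M, (a * z) • m = m ∧ z • m ≠ m := by
      by_cases h4 : (a * z) • m₂ = m₂
      · exact ⟨m₂, h4, hm₂⟩
      · refine ⟨m₁ * m₂, hmul _ h3 m₁ m₂ ?_ h4, ?_⟩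
        · rw [mul_smul, hm₁]
          exact hm₁'
        · intro h5
          rw [smul_mul', hm₁] at h5
          exact hm₂ (mul_left_cancel h5)
    have ham : a • m ≠ m := by
      intro h4
      apply hm'
      rw [az, mul_smul, h4] at hm
      exact hm
    have ham2 : a • m = z • m := by
      have h4 : a • ((a * z) • m) = a • m := by rw [hm]
      rw [← mul_smul, ← mul_assoc, aa, one_mul] at h4
      exact h4.symm
    set c := (z • m) * m⁻¹ with hc
    have hzc : ∀ y : M, z • y = y ∨ z • y = c * y := by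
      intro y
      by_cases h4 : z • y = y
      · exact Or.inl h4
      · right
        rw [hc, hcen z h1 m y hm' h4, inv_mul_cancel_right]
    have hac : ∀ y : M, a • y = y ∨ a • y = c * y := by
      intro y
      by_cases h4 : a • y = y
      · exact Or.inl h4
      · right
        rw [hc, ← ham2, hcen a h2 m y ham h4, inv_mul_cancel_right]
    have hgc : g • c = c := by
      have h4 : g • c = (z • (g • m)) * (g • m)⁻¹ := by
        rw [hc, smul_mul', smul_inv', ← mul_smul, ← mul_smul, gz]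
      have h5 : z • (g • m) ≠ g • m := by
        rw [← mul_smul, ← gz, mul_smul]
        exact fun h6 => hm' (smul_left_cancel _ h6)
      rw [h4, hc]
      exact (hcen z h1 m (g • m) hm' h5).symm
    have hbc : ∀ y : M, (g * a * g⁻¹) • y = y ∨ (g * a * g⁻¹) • y = c * y := by
      intro y
      rcases hac (g⁻¹ • y) with h4 | h4
      · left
        rw [mul_smul, mul_smul, h4, smul_inv_smul]
      · right
        rw [mul_smul, mul_smul, h4, smul_mul', hgc, smul_inv_smul]
    have hgc' : g⁻¹ • c = c := by rw [inv_smul_eq_iff, hgc]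
    have hca : a • c = c := by
      have h4 : a • ((a • m) * m⁻¹) = (a • m) * m⁻¹ := by
        rw [smul_mul', smul_inv', ← mul_smul, aa, one_smul, hinv, hinv, hab]
      rw [ham2, ← hc] at h4
      exact h4
    have hcb : (g * a * g⁻¹) • c = c := by rw [mul_smul, mul_smul, hgc', hca, hgc]
    refine hne _ rfl ?_
    have h4 : ∀ y : M, (a * (g * a * g⁻¹)) • y = ((g * a * g⁻¹) * a) • y := by
      intro y
      rw [mul_smul, mul_smul (g * a * g⁻¹) a]
      rcases hac y with h5 | h5 <;> rcases hbc y with h6 | h6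
      · rw [h5, h6, h5]
      · rw [h5, h6, smul_mul', hca, h5]
      · rw [h5, h6, smul_mul', hcb, h6, h5]
      · rw [h5, h6, smul_mul', hca, h5, smul_mul', hcb, h6]
    have h5 := faith ((g * a * g⁻¹ * a)⁻¹ * (a * (g * a * g⁻¹))) fun y => by
      rw [mul_smul, h4, inv_smul_smul]
    exact (inv_mul_eq_one.1 h5).symm

/-- `A` is quadratic if some involution of `A` has the same fixed points as `A`. -/
theorem quad_of (sq : ∀ m : M, m * m = 1) {A : Subgroup X} (hA : ∀ x ∈ A, ∀ y ∈ A, x * y = y * x) {b : X} (hb : b ∈ A)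
    (bb : b * b = 1) (hcv : ∀ m : M, b • m = m → m ∈ cv M (A : Set X)) {a : X} (ha : a ∈ A) (m : M) :
    (a • m) * m⁻¹ ∈ cv M (A : Set X) := by
  apply hcv
  have hab : ∀ x y : M, x * y = y * x := comm_of sq
  have hinv : ∀ x : M, x⁻¹ = x := inv_self sq
  have h1 : b • ((b • m) * m⁻¹) = (b • m) * m⁻¹ := by
    rw [smul_mul', smul_inv', ← mul_smul, bb, one_smul, hinv, hinv, hab]
  have h2 : a • ((b • m) * m⁻¹) = (b • m) * m⁻¹ := hcv _ h1 a ha
  rw [smul_mul', smul_inv', ← mul_smul, hA a ha b hb, mul_smul, hinv, hinv] at h2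
  rw [smul_mul', smul_inv', hinv, hinv]
  -- `h2 : b • a • m * a • m = b • m * m`
  calc b • (a • m) * (b • m) = (b • (a • m) * (a • m)) * (a • m) * (b • m) := by
        rw [mul_assoc (b • (a • m)), sq, mul_one]
    _ = (b • m) * m * (a • m) * (b • m) := by rw [h2]
    _ = (b • m) * (m * (a • m)) * (b • m) := by rw [mul_assoc (b • m)]
    _ = (m * (a • m)) * (b • m) * (b • m) := by rw [hab (b • m) (m * (a • m))]
    _ = (a • m) * m * ((b • m) * (b • m)) := by rw [hab m, mul_assoc]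
    _ = (a • m) * m := by rw [sq, mul_one]

end Cfsg.Agent.Omega.ML.Ex.KillZ

end

section


/-!
# Pairs of reflections of a finite crystallographic Coxeter group

(helper530, for the WALL THEOREM #22477, part (3))

* `conj_simple_eq` : `w s_i w⁻¹` is determined by the root `± w α_i`;
* `exists_pow` : for reflections `r ≠ s` there are `i ≠ j` with `(r s) ^ M i j = 1`;
* `pow_two_or_pow_three` : all labels at most 3: `(r s)² = 1` or `(r s)³ = 1`;
* `conj_eq` : all labels at most 3: `s r s = r` or `s r s = r s r`.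
-/

set_option autoImplicit false
set_option linter.unusedSectionVars false

namespace Cfsg.Agent.Omega.ML.Ex.WallCox

open CoxeterSystem Cfsg.Agent.ChevalleyStructure.CoxeterGeom Cfsg.Agent.Tits.Roots Cfsg.Agent.Tits.Core
  Cfsg.Agent.Tits.RootComb Cfsg.Agent.Nodes.Comb Cfsg.Agent.Nodes.SubComb Cfsg.Agent.Nodes.Coroot

section Cartan

variable {I W : Type*} [Fintype I] [DecidableEq I] [Group W] {M : CoxeterMatrix I}
  (cs : CoxeterSystem M W) {A : I → I → ℤ} (h : IsCartan M A)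

/-- The reflection is determined by the root. -/
theorem conj_simple_eq [Finite W] {w w' : W} {i i' : I}
    (e : rep cs h w (sr i) = rep cs h w' (sr i') ∨ rep cs h w (sr i) = -rep cs h w' (sr i')) :
    w * cs.simple i * w⁻¹ = w' * cs.simple i' * w'⁻¹ := by
  apply rep_injective cs h
  refine LinearMap.ext fun x => ?_
  have h1 := rep_rfl'_eq cs h w i x
  have h2 := rep_rfl'_eq cs h w' i' x
  rw [show w * cs.simple i * w⁻¹ = rfl' cs w i from rfl, show w' * cs.simple i' * w'⁻¹ = rfl' cs w' i' from rfl,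
    h1, h2]
  rcases e with e | e
  · rw [e]
  · rw [e, cpr_neg_right cs h x ⟨w', i', rfl⟩]
    module

/-- Products of two reflections of `⟨s_i, s_j⟩` are powers of `s_i s_j`. -/
theorem mem_rot {i j : I} {v : W} (hv : v ∈ WJ cs {i, j}) {k : I} (hk : k = i ∨ k = j) :
    ∃ z ∈ Subgroup.zpowers (cs.simple i * cs.simple j), v * cs.simple k * v⁻¹ = z * cs.simple i := by
  set Z := Subgroup.zpowers (cs.simple i * cs.simple j) with hZ
  have hgi : cs.simple i * cs.simple j ∈ Z := Subgroup.mem_zpowers _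
  have hinv : cs.simple j * cs.simple i ∈ Z := by
    have h1 := inv_mem hgi
    rwa [mul_inv_rev, cs.inv_simple, cs.inv_simple] at h1
  -- conjugation by `s_i` and `s_j` inverts `Z`
  have hci : ∀ z ∈ Z, cs.simple i * z * cs.simple i ∈ Z := by
    intro z hz
    obtain ⟨n, rfl⟩ := Subgroup.mem_zpowers_iff.1 hz
    have h1 : cs.simple i * (cs.simple i * cs.simple j) ^ n * (cs.simple i)⁻¹ =
        (cs.simple i * (cs.simple i * cs.simple j) * (cs.simple i)⁻¹) ^ n := by
      rw [conj_zpow]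
    rw [cs.inv_simple] at h1
    rw [h1]
    refine zpow_mem ?_ n
    rw [← mul_assoc, cs.simple_mul_simple_self, one_mul]
    exact hinv
  have hcj : ∀ z ∈ Z, cs.simple j * z * cs.simple j ∈ Z := by
    intro z hz
    obtain ⟨n, rfl⟩ := Subgroup.mem_zpowers_iff.1 hz
    have h1 : cs.simple j * (cs.simple i * cs.simple j) ^ n * (cs.simple j)⁻¹ =
        (cs.simple j * (cs.simple i * cs.simple j) * (cs.simple j)⁻¹) ^ n := by
      rw [conj_zpow]
    rw [cs.inv_simple] at h1
    rw [h1]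
    refine zpow_mem ?_ n
    rw [mul_assoc, mul_assoc, cs.simple_mul_simple_self, mul_one]
    exact hinv
  have hij : ∀ k, (k = i ∨ k = j) → ∀ x, (∃ z ∈ Z, x = z * cs.simple i) →
      ∃ z ∈ Z, cs.simple k * x * cs.simple k = z * cs.simple i := by
    rintro k (rfl | rfl) x ⟨z, hz, rfl⟩
    · exact ⟨cs.simple k * z * cs.simple k, hci z hz, by simp only [mul_assoc]⟩
    · refine ⟨cs.simple k * z * cs.simple k * (cs.simple k * cs.simple i) * (cs.simple k * cs.simple i),
        mul_mem (mul_mem (hcj z hz) hinv) hinv, ?_⟩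
      have h1 := cs.simple_mul_simple_self k
      have h2 := cs.simple_mul_simple_self i
      calc cs.simple k * (z * cs.simple i) * cs.simple k
          = cs.simple k * z * (cs.simple k * cs.simple k) * cs.simple i * cs.simple k *
            (cs.simple i * cs.simple i) := by rw [h1, h2]; simp only [mul_one, mul_assoc]
        _ = _ := by simp only [mul_assoc]
  have hbase : ∃ z ∈ Z, cs.simple k = z * cs.simple i := by
    rcases hk with rfl | rfl
    · exact ⟨1, one_mem _, (one_mul _).symm⟩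
    · exact ⟨_, hinv, by rw [mul_assoc, cs.simple_mul_simple_self, mul_one]⟩
  have key : ∀ x, (∃ z ∈ Z, v * x * v⁻¹ = z * cs.simple i) ↔ ∃ z ∈ Z, x = z * cs.simple i := by
    clear_value Z
    induction hv using Subgroup.closure_induction with
    | mem y hy =>
      obtain ⟨l, hl, rfl⟩ := hy
      intro x
      rw [cs.inv_simple]
      refine ⟨fun hx => ?_, hij l hl x⟩
      have h1 := hij l hl _ hx
      have h2 : cs.simple l * (cs.simple l * x * cs.simple l) * cs.simple l =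
          (cs.simple l * cs.simple l) * x * (cs.simple l * cs.simple l) := by simp only [mul_assoc]
      rwa [h2, cs.simple_mul_simple_self, one_mul, mul_one] at h1
    | one => intro x; rw [one_mul, inv_one, mul_one]
    | mul a b ha hb iha ihb =>
      intro x
      have h1 : a * b * x * (a * b)⁻¹ = a * (b * x * b⁻¹) * a⁻¹ := by group
      rw [h1, iha, ihb]
    | inv a ha iha =>
      intro x
      have h1 := iha (a⁻¹ * x * a⁻¹⁻¹)
      have h2 : a * (a⁻¹ * x * a⁻¹⁻¹) * a⁻¹ = x := by group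
      rw [h2] at h1
      exact h1.symm
  exact (key _).2 hbase

/-- Two roots in the span of `α_i`, `α_j`. -/
theorem prod_mem_rot {i j : I} {v v' : W} (hv : v ∈ WJ cs {i, j}) (hv' : v' ∈ WJ cs {i, j}) {k k' : I}
    (hk : k = i ∨ k = j) (hk' : k' = i ∨ k' = j) :
    (v * cs.simple k * v⁻¹ * (v' * cs.simple k' * v'⁻¹)) ^ M i j = 1 := by
  obtain ⟨z, hz, e⟩ := mem_rot cs hv hk
  obtain ⟨z', hz', e'⟩ := mem_rot cs hv' hk'
  have h1 : (v' * cs.simple k' * v'⁻¹) * (v' * cs.simple k' * v'⁻¹) = 1 := by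
    have : (v' * cs.simple k' * v'⁻¹) * (v' * cs.simple k' * v'⁻¹) =
      v' * (cs.simple k' * cs.simple k') * v'⁻¹ := by group
    rw [this, cs.simple_mul_simple_self, mul_one, mul_inv_cancel]
  have h2 : v' * cs.simple k' * v'⁻¹ = cs.simple i * z'⁻¹ := by
    have h3 := inv_eq_of_mul_eq_one_right h1
    rw [← h3, e', mul_inv_rev, cs.inv_simple]
  have h3 : v * cs.simple k * v⁻¹ * (v' * cs.simple k' * v'⁻¹) = z * z'⁻¹ := by
    rw [e, h2]
    calc z * cs.simple i * (cs.simple i * z'⁻¹) = z * (cs.simple i * cs.simple i) * z'⁻¹ := by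
          simp only [mul_assoc]
      _ = _ := by rw [cs.simple_mul_simple_self, mul_one]
  rw [h3]
  obtain ⟨n, hn⟩ := Subgroup.mem_zpowers_iff.1 (mul_mem hz (inv_mem hz'))
  rw [← hn, ← zpow_natCast, zpow_comm, zpow_natCast, cs.simple_mul_simple_pow, one_zpow]

include h in
/-- **Two reflections of a finite crystallographic Coxeter group**. -/
theorem exists_pow [Finite W] {r s : W} (hr : cs.IsReflection r) (hs : cs.IsReflection s) (hrs : r ≠ s) :
    ∃ i j : I, i ≠ j ∧ (r * s) ^ M i j = 1 := by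
  obtain ⟨w, a, rfl⟩ := hr
  obtain ⟨w', b, rfl⟩ := hs
  have hx : IsRoot cs h (rep cs h w (sr a)) := ⟨w, a, rfl⟩
  have hy : IsRoot cs h (rep cs h w' (sr b)) := ⟨w', b, rfl⟩
  have hne : rep cs h w (sr a) ≠ rep cs h w' (sr b) := fun e => hrs (conj_simple_eq cs h (Or.inl e))
  have hne' : rep cs h w (sr a) ≠ -rep cs h w' (sr b) := fun e => hrs (conj_simple_eq cs h (Or.inr e))
  obtain ⟨g, i, j, hij, hsx, hsy⟩ := exists_plane cs h hx hy hne hne'
  obtain ⟨v, hv, k, hk, ek⟩ := exists_of_supp cs h (hx.act g) hsx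
  obtain ⟨v', hv', k', hk', ek'⟩ := exists_of_supp cs h (hy.act g) hsy
  refine ⟨i, j, hij, ?_⟩
  have h1 : (g * w) * cs.simple a * (g * w)⁻¹ = v * cs.simple k * v⁻¹ := by
    apply conj_simple_eq cs h
    left
    rw [← ek, rep_mul_apply]
  have h2 : (g * w') * cs.simple b * (g * w')⁻¹ = v' * cs.simple k' * v'⁻¹ := by
    apply conj_simple_eq cs h
    left
    rw [← ek', rep_mul_apply]
  have h3 := prod_mem_rot cs hv hv' hk hk'
  rw [← h1, ← h2] at h3
  have h4 : g * w * cs.simple a * (g * w)⁻¹ * (g * w' * cs.simple b * (g * w')⁻¹) =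
      g * (w * cs.simple a * w⁻¹ * (w' * cs.simple b * w'⁻¹)) * g⁻¹ := by group
  rw [h4, conj_pow] at h3
  have h5 : g⁻¹ * (g * (w * cs.simple a * w⁻¹ * (w' * cs.simple b * w'⁻¹)) ^ M i j * g⁻¹) * g = 1 := by
    rw [h3, mul_one, inv_mul_cancel]
  rw [← h5]
  group

end Cartan

/-! ### All labels at most three -/

variable {I W : Type*} [Finite I] [Group W] {M : CoxeterMatrix I} (cs : CoxeterSystem M W)

/-- **Simply laced**: the product of two reflections has order 1, 2 or 3. -/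
theorem pow_two_or_pow_three [Finite W] (hM : ∀ i j, i ≠ j → M i j = 2 ∨ M i j = 3) {r s : W}
    (hr : cs.IsReflection r) (hs : cs.IsReflection s) : (r * s) ^ 2 = 1 ∨ (r * s) ^ 3 = 1 := by
  classical
  have := Fintype.ofFinite I
  by_cases hrs : r = s
  · left
    rw [hrs, hs.mul_self, one_pow]
  obtain ⟨A, hA⟩ := exists_cartan M fun i j hij => (hM i j hij).imp_right Or.inl
  obtain ⟨i, j, hij, h1⟩ := exists_pow cs hA hr hs hrs
  rcases hM i j hij with h2 | h2
  · left; rwa [h2] at h1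
  · right; rwa [h2] at h1

/-- **Simply laced**: `s r s = r` or `s r s = r s r`. -/
theorem conj_eq [Finite W] (hM : ∀ i j, i ≠ j → M i j = 2 ∨ M i j = 3) {r s : W}
    (hr : cs.IsReflection r) (hs : cs.IsReflection s) : s * r * s = r ∨ s * r * s = r * s * r := by
  have hrr := hr.mul_self
  have hss := hs.mul_self
  rcases pow_two_or_pow_three cs hM hr hs with h1 | h1
  · left
    have h2 : r * (s * r * s) = 1 := by
      rw [← h1, pow_two]
      simp only [mul_assoc]
    rw [← inv_eq_of_mul_eq_one_right h2, inv_eq_of_mul_eq_one_right hrr]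
  · right
    have h2 : (r * s * r) * (s * r * s) = 1 := by
      rw [← h1, pow_succ, pow_two]
      simp only [mul_assoc]
    have h3 : (r * s * r) * (r * s * r) = 1 := by
      calc (r * s * r) * (r * s * r) = r * (s * (r * r) * s) * r := by simp only [mul_assoc]
        _ = 1 := by rw [hrr, mul_one, hss, mul_one, hrr]
    rw [← inv_eq_of_mul_eq_one_right h2, inv_eq_of_mul_eq_one_right h3]

end Cfsg.Agent.Omega.ML.Ex.WallCox

end

section


/-!
# Trivial walls and good nodes (helper530, for the WALL THEOREM #22477, parts (3) and (4))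

`J₀` a type, `LL` the family of the proper invariant types (`LL : Set I → Prop`).

* `Triv cs J₀ LL x` : `x = v t v⁻¹`, `v ∈ W_{J₀}`, `t` a reflection of `W_L`, `LL L`;
* `Good cs J₀ LL i` : `s_i r s_i` is trivial for all reflections `r` of `W_{J₀}`;
* `good_of_subset`, `good_of_laced` (all labels at most 3);
* `triv_of_supp` : in terms of roots;
* `goodB`, `trivB` : type `B_n`, `n ≥ 3`;  `goodF`, `goodF_graph` : type `F₄`.
-/

set_option autoImplicit false
set_option linter.unusedSectionVars false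

namespace Cfsg.Agent.Omega.ML.Ex.WallGood

open CoxeterSystem Cfsg.Agent.ChevalleyStructure.CoxeterGeom Cfsg.Agent.Tits.Roots Cfsg.Agent.Tits.Core
  Cfsg.Agent.Tits.RootComb Cfsg.Agent.Nodes.Comb Cfsg.Agent.Nodes.SubComb Cfsg.Agent.Nodes.Coroot
  Cfsg.Agent.Omega.ML.Ex.WallCox

section Defs

variable {I W : Type*} [Group W] {M : CoxeterMatrix I} (cs : CoxeterSystem M W)

/-- The reflection `x` is trivial. -/
def Triv (J₀ : Set I) (LL : Set I → Prop) (x : W) : Prop :=
  ∃ v ∈ WJ cs J₀, ∃ L, LL L ∧ ∃ l ∈ WJ cs L, ∃ k ∈ L, x = v * (l * cs.simple k * l⁻¹) * v⁻¹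

/-- The node `i` is good. -/
def Good (J₀ : Set I) (LL : Set I → Prop) (i : I) : Prop :=
  ∀ w ∈ WJ cs J₀, ∀ j ∈ J₀, Triv cs J₀ LL (cs.simple i * (w * cs.simple j * w⁻¹) * cs.simple i)

variable {cs} {J₀ : Set I} {LL : Set I → Prop}

theorem simple_mem_WJ' {L : Set I} {i : I} (hi : i ∈ L) : cs.simple i ∈ WJ cs L :=
  Subgroup.subset_closure ⟨i, hi, rfl⟩

theorem Triv.conj {x v : W} (h : Triv cs J₀ LL x) (hv : v ∈ WJ cs J₀) : Triv cs J₀ LL (v * x * v⁻¹) := by
  obtain ⟨u, hu, L, hL, l, hl, k, hk, rfl⟩ := h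
  exact ⟨v * u, mul_mem hv hu, L, hL, l, hl, k, hk, by group⟩

theorem triv_of_mem {L : Set I} (hL : LL L) {l : W} (hl : l ∈ WJ cs L) {k : I} (hk : k ∈ L) :
    Triv cs J₀ LL (l * cs.simple k * l⁻¹) :=
  ⟨1, one_mem _, L, hL, l, hl, k, hk, by group⟩

/-- The node and `J₀` are in a proper invariant type. -/
theorem good_of_subset {L : Set I} (hL : LL L) (hJ : J₀ ⊆ L) {i : I} (hi : i ∈ L) : Good cs J₀ LL i := by
  intro w hw j hj
  have hw' : w ∈ WJ cs L := Subgroup.closure_mono (Set.image_mono hJ) hw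
  have h1 : cs.simple i * (w * cs.simple j * w⁻¹) * cs.simple i =
      (cs.simple i * w) * cs.simple j * (cs.simple i * w)⁻¹ := by
    rw [mul_inv_rev, cs.inv_simple]
    simp only [mul_assoc]
  rw [h1]
  exact triv_of_mem hL (mul_mem (simple_mem_WJ' hi) hw') (hJ hj)

/-- **Simply laced**: all nodes are good. -/
theorem good_of_laced [Finite I] [Finite W] (hM : ∀ i j, i ≠ j → M i j = 2 ∨ M i j = 3) (hJ : LL J₀) {i : I}
    (hi : ∃ L, LL L ∧ i ∈ L) : Good cs J₀ LL i := by
  intro w hw j hj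
  obtain ⟨L, hL, hiL⟩ := hi
  have hr : cs.IsReflection (w * cs.simple j * w⁻¹) := ⟨w, j, rfl⟩
  rcases conj_eq cs hM hr (cs.isReflection_simple i) with h1 | h1
  · rw [h1]
    exact triv_of_mem hJ hw hj
  · rw [h1]
    have h2 : (w * cs.simple j * w⁻¹)⁻¹ = w * cs.simple j * w⁻¹ := by
      rw [mul_inv_rev, mul_inv_rev, inv_inv, cs.inv_simple, mul_assoc]
    refine ⟨w * cs.simple j * w⁻¹, mul_mem (mul_mem hw (simple_mem_WJ' hj)) (inv_mem hw), L, hL, 1, one_mem _, i, hiL,
      ?_⟩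
    rw [h2, one_mul, inv_one, mul_one]

end Defs

/-! ### Roots -/

section Roots

variable {I W : Type*} [Fintype I] [DecidableEq I] [Group W] {M : CoxeterMatrix I}
  (cs : CoxeterSystem M W) {A : I → I → ℤ} (h : IsCartan M A) {J₀ : Set I} {LL : Set I → Prop}

theorem exists_of_support_aux [Finite W] {L : Set I} (n : ℕ) : ∀ x : I → ℤ, IsRoot cs h x → (∀ k, k ∉ L → x k = 0) →
    0 ≤ x → ht x ≤ n → ∃ v ∈ WJ cs L, ∃ k ∈ L, x = rep cs h v (sr k) := by
  have : Fintype W := Fintype.ofFinite W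
  induction n with
  | zero =>
    intro x hx _ h0 hn
    exfalso
    apply hx.ne_zero
    have h1 : ∑ k, x k = 0 := le_antisymm hn (Finset.sum_nonneg fun k _ => h0 k)
    funext k
    exact (Finset.sum_eq_zero_iff_of_nonneg (fun k _ => h0 k)).1 h1 k (Finset.mem_univ k)
  | succ n ih =>
    intro x hx hs h0 hn
    obtain ⟨m, hm, hm'⟩ := exists_pairing_pos cs h h0 hx.ne_zero
    have hmL : m ∈ L := by
      by_contra hcon
      rw [hs m hcon] at hm
      exact lt_irrefl _ hm
    by_cases hxm : x = sr m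
    · exact ⟨1, one_mem _, m, hmL, by rw [map_one, Module.End.one_apply]; exact hxm⟩
    have hmem : cs.simple m ∈ WJ cs L := simple_mem_WJ' hmL
    obtain ⟨v, hv, k, hk, e⟩ := ih (rep cs h (cs.simple m) x) (hx.act _)
      (fun k hk => by rw [rep_apply_of_mem cs h hmem x hk]; exact hs k hk)
      (hx.simple_nonneg h0 m hxm) (by rw [ht_simple]; push_cast at hn ⊢; linarith)
    refine ⟨cs.simple m * v, mul_mem hmem hv, k, hk, ?_⟩
    rw [rep_mul_apply, ← e, ← rep_mul_apply, simple_mul_simple_self, map_one, Module.End.one_apply]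

/-- A root supported on `L` is `v (α_k)` with `v ∈ W_L`, `k ∈ L`. -/
theorem exists_of_support [Finite W] {L : Set I} {x : I → ℤ} (hx : IsRoot cs h x) (hs : ∀ k, k ∉ L → x k = 0) :
    ∃ v ∈ WJ cs L, ∃ k ∈ L, x = rep cs h v (sr k) := by
  rcases hx.pos_or_neg with h0 | h0
  · exact exists_of_support_aux cs h (ht x).toNat x hx hs h0 (Int.self_le_toNat _)
  · obtain ⟨v, hv, k, hk, e⟩ := exists_of_support_aux cs h (ht (-x)).toNat (-x) hx.neg
      (fun k hk => by rw [Pi.neg_apply, hs k hk, neg_zero]) (neg_nonneg.2 h0) (Int.self_le_toNat _)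
    refine ⟨v * cs.simple k, mul_mem hv (simple_mem_WJ' hk), k, hk, ?_⟩
    rw [rep_mul_apply, rep_simple_sr, map_neg, ← e, neg_neg]

/-- A reflection is trivial if a `W_{J₀}`-conjugate of its root is supported on some `L` in `LL`. -/
theorem triv_of_supp [Finite W] {g : W} {c : I} {v : W} (hv : v ∈ WJ cs J₀) {L : Set I} (hL : LL L)
    (hs : ∀ k, k ∉ L → rep cs h v (rep cs h g (sr c)) k = 0) : Triv cs J₀ LL (g * cs.simple c * g⁻¹) := by
  have hx0 : IsRoot cs h (rep cs h g (sr c)) := ⟨g, c, rfl⟩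
  have hx : IsRoot cs h (rep cs h v (rep cs h g (sr c))) := hx0.act v
  obtain ⟨l, hl, k, hk, e⟩ := exists_of_support cs h hx hs
  rw [← rep_mul_apply] at e
  have h1 := conj_simple_eq cs h (Or.inl e)
  refine ⟨v⁻¹, inv_mem hv, L, hL, l, hl, k, hk, ?_⟩
  rw [← h1]
  group

/-- The node `i` is good in terms of the roots of `W_{J₀}`. -/
theorem good_of_supp [Finite W] {i : I}
    (H : ∀ x, IsRoot cs h x → (∀ k, k ∉ J₀ → x k = 0) → ∃ v ∈ WJ cs J₀, ∃ L, LL L ∧
      ∀ k, k ∉ L → rep cs h v (rep cs h (cs.simple i) x) k = 0) : Good cs J₀ LL i := by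
  intro w hw j hj
  have hx : IsRoot cs h (rep cs h w (sr j)) := ⟨w, j, rfl⟩
  obtain ⟨v, hv, L, hL, hs⟩ := H _ hx (fun k hk => by
    rw [rep_apply_of_mem cs h hw _ hk]
    exact sr_ne (fun e => hk (by rw [e]; exact hj)))
  have h1 : cs.simple i * (w * cs.simple j * w⁻¹) * cs.simple i =
      (cs.simple i * w) * cs.simple j * (cs.simple i * w)⁻¹ := by
    rw [mul_inv_rev, cs.inv_simple]
    simp only [mul_assoc]
  rw [h1]
  refine triv_of_supp cs h hv hL ?_
  intro k hk
  rw [rep_mul_apply]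
  exact hs k hk

end Roots

/-! ### Type `B_n` -/

section TypeB

open Cfsg.Agent.Nodes.TypeC

variable {n : ℕ} {W : Type*} [Group W] (cs : CoxeterSystem (CoxeterMatrix.B n) W) {J₀ : Set (Fin n)}
  {LL : Set (Fin n) → Prop}

/-- the sign of a signed index -/
def sn (a : Fin n × Bool) : ℤ := if a.2 then 1 else -1

theorem sn_cases (a : Fin n × Bool) : sn a = 1 ∨ sn a = -1 := by
  unfold sn; split_ifs <;> simp

/-- coordinates of a root -/
theorem coord {x : Fin n → ℤ} {a b : Fin n × Bool} (e : ee x = wt a + wt b) (k : Fin n) :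
    (if (k : ℕ) + 1 < n then 1 else 2) * x k = (if a.1 ≤ k then sn a else 0) + (if b.1 ≤ k then sn b else 0) := by
  have key : ∑ m ∈ Finset.Iic k, ee x m = (if (k : ℕ) + 1 < n then 1 else 2) * x k := by
    have h1 : ∀ m, ee x m = ∑ j, x j * bt j m := by
      intro m
      simp [ee, Finset.sum_apply]
    simp only [h1]
    rw [Finset.sum_comm]
    simp only [← Finset.mul_sum, sum_bt]
    rw [Finset.sum_eq_single k]
    · simp only [if_true]
      split_ifs <;> ring
    · intro j _ hj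
      simp [Ne.symm hj]
    · simp
  have h2 : ∀ c : Fin n × Bool, ∑ m ∈ Finset.Iic k, wt c m = if c.1 ≤ k then sn c else 0 := by
    intro c
    rw [wt, Finset.sum_pi_single']
    simp only [Finset.mem_Iic, sn]
  rw [← key, e]
  simp only [Pi.add_apply, Finset.sum_add_distrib, h2]

theorem sn_sg {i : Fin n} (hi : (i : ℕ) + 1 < n) (a : Fin n × Bool) : sn (sg i a) = sn a := by
  unfold sn sg
  rw [dif_pos hi]
  split_ifs <;> simp_all

theorem ee_rep_simple {x : Fin n → ℤ} {a b : Fin n × Bool} (e : ee x = wt a + wt b) (i : Fin n) :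
    ee (rep cs (isCartan n) (cs.simple i) x) = wt (sg i a) + wt (sg i b) := by
  rw [rep_simple, ee_refl_of e]

theorem eq_zero_of_coord {x : Fin n → ℤ} {a b : Fin n × Bool} (e : ee x = wt a + wt b) {k : Fin n}
    (h : (if a.1 ≤ k then sn a else 0) + (if b.1 ≤ k then sn b else 0) = 0) : x k = 0 := by
  have h1 := coord e k
  rw [h] at h1
  split_ifs at h1 <;> omega

/-- **Type `B_n`**: every node outside `J₀` is good, unless `J₀` is the complement of the first node. -/
theorem goodB (hn : 3 ≤ n) (hLL : ∀ L, L ≠ Set.univ → LL L) {i : Fin n} (hi : i ∉ J₀)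
    (hne : J₀ ≠ {k : Fin n | (k : ℕ) ≠ 0}) : Good cs J₀ LL i := by
  have hW : Finite W := finite_W cs
  by_cases hJ : insert i J₀ = Set.univ
  swap
  · exact good_of_subset (hLL _ hJ) (Set.subset_insert _ _) (Set.mem_insert _ _)
  have hJ' : ∀ k, k ∈ J₀ ↔ k ≠ i := by
    intro k
    refine ⟨fun hk e => hi (e ▸ hk), fun hk => ?_⟩
    have h1 : k ∈ insert i J₀ := by rw [hJ]; trivial
    rcases h1 with h1 | h1
    · exact absurd h1 hk
    · exact h1
  have hi0 : (i : ℕ) ≠ 0 := by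
    intro h0
    apply hne
    ext k
    rw [hJ', Set.mem_ofPred_eq, Ne, Fin.ext_iff, h0]
  have hL : ∀ c : Fin n, LL {k | k ≠ c} := fun c => hLL _ (fun h => by
    have : c ∈ {k : Fin n | k ≠ c} := by rw [h]; trivial
    exact this rfl)
  refine good_of_supp cs (isCartan n) ?_
  intro x hx hsx
  have hxi : x i = 0 := hsx i hi
  obtain ⟨a, b, hab, e⟩ := exists_of_isRoot cs hx
  have e1 := ee_rep_simple cs e i
  -- it is enough to find a zero coordinate of a `W_{J₀}`-conjugate
  suffices H : ∃ v ∈ WJ cs J₀, ∃ c, rep cs (isCartan n) v (rep cs (isCartan n) (cs.simple i) x) c = 0 by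
    obtain ⟨v, hv, c, hc⟩ := H
    refine ⟨v, hv, {k | k ≠ c}, hL c, ?_⟩
    intro k hk
    have hk' : k = c := by
      by_contra h1
      exact hk h1
    rw [hk', hc]
  have hone : ∀ c, rep cs (isCartan n) (cs.simple i) x c = 0 →
      ∃ v ∈ WJ cs J₀, ∃ c, rep cs (isCartan n) v (rep cs (isCartan n) (cs.simple i) x) c = 0 := by
    intro c hc
    exact ⟨1, one_mem _, c, by rw [map_one, Module.End.one_apply]; exact hc⟩
  have h0 := coord e i
  rw [hxi, mul_zero] at h0
  have hi2 := i.2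
  set z : Fin n := ⟨0, by omega⟩ with hz
  set l : Fin n := ⟨n - 1, by omega⟩ with hl
  by_cases hin : (i : ℕ) + 1 < n
  · by_cases hs : sn a + sn b = 0
    · refine hone l (eq_zero_of_coord e1 ?_)
      have h1 : (sg i a).1 ≤ l := by rw [Fin.le_def, hl]; have := (sg i a).1.2; simp only; omega
      have h2 : (sg i b).1 ≤ l := by rw [Fin.le_def, hl]; have := (sg i b).1.2; simp only; omega
      rw [if_pos h1, if_pos h2, sn_sg hin, sn_sg hin, hs]
    · refine hone z (eq_zero_of_coord e1 ?_)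
      have key : ∀ d : Fin n × Bool, ¬ d.1 ≤ i → ¬ (sg i d).1 ≤ z := by
        intro d hd
        rw [Fin.le_def] at hd ⊢
        unfold sg
        rw [dif_pos hin]
        have h3 : d.1 ≠ i := by rintro rfl; exact hd le_rfl
        rw [if_neg h3]
        by_cases h4 : d.1 = ⟨(i : ℕ) + 1, hin⟩
        · rw [if_pos h4]; simp only [hz]; omega
        · rw [if_neg h4]; simp only [hz]; omega
      have h1 : ¬ a.1 ≤ i := by
        intro h1
        rw [if_pos h1] at h0
        rcases sn_cases a with h2 | h2 <;> rcases sn_cases b with h3 | h3 <;> rw [h2, h3] at h0 hs <;>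
          split_ifs at h0 <;> omega
      have h2 : ¬ b.1 ≤ i := by
        intro h2
        rw [if_neg h1, if_pos h2] at h0
        rcases sn_cases b with h3 | h3 <;> rw [h3] at h0 <;> omega
      rw [if_neg (key a h1), if_neg (key b h2), add_zero]
  · -- the last node
    have hil : i = l := Fin.ext (by simp only [hl]; omega)
    have ha : a.1 ≤ i := by rw [Fin.le_def]; have := a.1.2; omega
    have hb : b.1 ≤ i := by rw [Fin.le_def]; have := b.1.2; omega
    rw [if_pos ha, if_pos hb] at h0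
    have hne' : a.1 ≠ b.1 := by
      rcases hab with h1 | h1
      · exact h1
      · exfalso
        rw [h1] at h0
        rcases sn_cases b with h3 | h3 <;> rw [h3] at h0 <;> omega
    have hfix : ∀ d : Fin n × Bool, d.1 ≠ i → sg i d = d := fun d hd =>
      sg_of_ne hd (by have := d.1.2; omega)
    -- the main case
    have main : ∀ a b : Fin n × Bool, ee (rep cs (isCartan n) (cs.simple i) x) = wt (sg i a) + wt (sg i b) →
        a.1 = i → b.1 ≠ i →
        ∃ v ∈ WJ cs J₀, ∃ c, rep cs (isCartan n) v (rep cs (isCartan n) (cs.simple i) x) c = 0 := by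
      intro a b e1 ha hb
      rw [hfix b hb] at e1
      have hsga : (sg i a).1 = i := by
        unfold sg
        rw [dif_neg hin, if_pos ha]
        exact ha
      by_cases hb0 : b.1 = z
      · refine ⟨cs.simple z, simple_mem_WJ' ((hJ' z).2 ?_), z, ?_⟩
        · intro h1; apply hi0; rw [← h1]
        have e2 := ee_rep_simple cs e1 z
        refine eq_zero_of_coord e2 ?_
        have h1 : sg z (sg i a) = sg i a := sg_of_ne (by rw [hsga]; intro h1; apply hi0; rw [h1])
          (by rw [hsga]; simp only [hz]; omega)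
        have h2 : (sg z b).1 = ⟨(z : ℕ) + 1, by simp only [hz]; omega⟩ := by
          unfold sg
          rw [dif_pos (by simp only [hz]; omega), if_pos hb0]
        rw [h1, hsga, if_neg, if_neg, add_zero]
        · rw [h2, Fin.le_def]; simp only [hz]; omega
        · rw [Fin.le_def]; simp only [hz]; omega
      · refine hone z (eq_zero_of_coord e1 ?_)
        rw [hsga, if_neg, if_neg, add_zero]
        · rw [Fin.le_def]
          intro h1
          apply hb0
          apply Fin.ext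
          simp only [hz] at h1 ⊢
          omega
        · rw [Fin.le_def]; simp only [hz]; omega
    by_cases hai : a.1 = i
    · exact main a b e1 hai (fun h1 => hne' (hai.trans h1.symm))
    · by_cases hbi : b.1 = i
      · exact main b a (by rw [e1, add_comm]) hbi hai
      · refine hone l (eq_zero_of_coord e1 ?_)
        rw [hfix a hai, hfix b hbi, ← hil, if_pos ha, if_pos hb]
        exact h0.symm

/-- **Type `B_n`**, `J₀` the complement of the first node: all reflections are trivial, except one. -/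
theorem trivB (hn : 2 ≤ n) (hLL : ∀ L, L ≠ Set.univ → LL L) (g : W) (c : Fin n) :
    Triv cs {k : Fin n | (k : ℕ) ≠ 0} LL (g * cs.simple c * g⁻¹) ∨
      ∃ s, ee (rep cs (isCartan n) g (sr c)) = wt (⟨0, by omega⟩, s) + wt (⟨0, by omega⟩, s) := by
  have hW : Finite W := finite_W cs
  have hL : ∀ c : Fin n, LL {k | k ≠ c} := fun c => hLL _ (fun h => by
    have : c ∈ {k : Fin n | k ≠ c} := by rw [h]; trivial
    exact this rfl)
  set z : Fin n := ⟨0, by omega⟩ with hz
  set l : Fin n := ⟨n - 1, by omega⟩ with hl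
  have hLz : LL {k : Fin n | (k : ℕ) ≠ 0} := by
    have h1 := hL z
    have h2 : {k : Fin n | (k : ℕ) ≠ 0} = {k | k ≠ z} := by
      ext k
      rw [Set.mem_ofPred_eq, Set.mem_ofPred_eq, Ne, Ne, Fin.ext_iff]
    rwa [h2]
  have hx : IsRoot cs (isCartan n) (rep cs (isCartan n) g (sr c)) := ⟨g, c, rfl⟩
  obtain ⟨a, b, hab, e⟩ := exists_of_isRoot cs hx
  -- flip a sign
  have flip : ∀ d : ℕ, ∀ q : Fin n, (q : ℕ) ≠ 0 → (q : ℕ) + d + 1 = n → ∃ v ∈ WJ cs {k : Fin n | (k : ℕ) ≠ 0},
      ∀ x s t, ee x = wt (z, s) + wt (q, t) → ee (rep cs (isCartan n) v x) = wt (z, s) + wt (l, !t) := by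
    intro d
    induction d with
    | zero =>
      intro q hq hqn
      refine ⟨cs.simple q, simple_mem_WJ' hq, ?_⟩
      intro x s t hx
      have h1 := ee_rep_simple cs hx q
      rw [sg_of_ne (i := q) (x := (z, s)) (by intro h2; apply hq; rw [← show z = q from h2])
        (by simp only [hz]; omega), sg_last (by omega)] at h1
      rw [h1]
      have h2 : q = l := Fin.ext (by simp only [hl]; omega)
      rw [h2]
    | succ d ih =>
      intro q hq hqn
      obtain ⟨v, hv, H⟩ := ih ⟨(q : ℕ) + 1, by omega⟩ (by simp) (by simp only; omega)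
      refine ⟨v * cs.simple q, mul_mem hv (simple_mem_WJ' hq), ?_⟩
      intro x s t hx
      have h1 := ee_rep_simple cs hx q
      rw [sg_of_ne (i := q) (x := (z, s)) (by intro h2; apply hq; rw [← show z = q from h2])
        (by simp only [hz]; omega), sg_up (by omega)] at h1
      rw [rep_mul_apply]
      exact H _ s t h1
  have main : ∀ a b : Fin n × Bool, ee (rep cs (isCartan n) g (sr c)) = wt a + wt b → a.1 = z → b.1 ≠ z →
      Triv cs {k : Fin n | (k : ℕ) ≠ 0} LL (g * cs.simple c * g⁻¹) := by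
    intro a b e ha hb
    have ha' : a = (z, a.2) := Prod.ext ha rfl
    have hb' : b = (b.1, b.2) := rfl
    have hb0 : (b.1 : ℕ) ≠ 0 := fun h1 => hb (Fin.ext (by simp only [hz]; exact h1))
    have hfin : ∀ v ∈ WJ cs {k : Fin n | (k : ℕ) ≠ 0}, rep cs (isCartan n) v (rep cs (isCartan n) g (sr c)) l = 0 →
        Triv cs {k : Fin n | (k : ℕ) ≠ 0} LL (g * cs.simple c * g⁻¹) := by
      intro v hv h1
      refine triv_of_supp cs (isCartan n) hv (hL l) ?_
      intro k hk
      have hk' : k = l := by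
        by_contra h2
        exact hk h2
      rw [hk', h1]
    by_cases hs : a.2 = b.2
    · obtain ⟨v, hv, H⟩ := flip (n - b.1 - 1) b.1 hb0 (by have := b.1.2; omega)
      have h1 := H _ a.2 b.2 (by rw [e]; congr 1; rw [ha'])
      refine hfin v hv (eq_zero_of_coord h1 ?_)
      rw [if_pos (by rw [Fin.le_def]; simp only [hz]; omega), if_pos le_rfl]
      unfold sn
      rw [hs]
      cases b.2 <;> simp
    · refine hfin 1 (one_mem _) ?_
      rw [map_one, Module.End.one_apply]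
      refine eq_zero_of_coord e ?_
      rw [if_pos (by rw [Fin.le_def]; have := a.1.2; simp only [hl]; omega),
        if_pos (by rw [Fin.le_def]; have := b.1.2; simp only [hl]; omega)]
      have h3 : a.2 = !b.2 := Bool.eq_not.2 hs
      unfold sn
      rw [h3]
      cases b.2 <;> simp
  by_cases ha : a.1 = z
  · by_cases hb : b.1 = z
    · right
      have hab' : a = b := by
        rcases hab with h1 | h1
        · exact absurd (ha.trans hb.symm) h1
        · exact h1
      refine ⟨b.2, ?_⟩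
      rw [e, hab']
      have hb' : b = (z, b.2) := Prod.ext hb rfl
      rw [← hb']
    · exact Or.inl (main a b e ha hb)
  · by_cases hb : b.1 = z
    · exact Or.inl (main b a (by rw [e, add_comm]) hb ha)
    · left
      refine triv_of_supp cs (isCartan n) (one_mem _) hLz ?_
      intro k hk
      have hk' : k = z := Fin.ext (by simp only [hz]; by_contra h2; exact hk h2)
      rw [map_one, Module.End.one_apply, hk']
      refine eq_zero_of_coord e ?_
      rw [if_neg, if_neg, add_zero]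
      · rw [Fin.le_def]; intro h1; apply hb; apply Fin.ext; simp only [hz] at h1 ⊢; omega
      · rw [Fin.le_def]; intro h1; apply ha; apply Fin.ext; simp only [hz] at h1 ⊢; omega

/-- The exceptional reflection is unique. -/
theorem unique_of_ee {g g' : W} {c c' z : Fin n} {s s' : Bool}
    (e : ee (rep cs (isCartan n) g (sr c)) = wt (z, s) + wt (z, s))
    (e' : ee (rep cs (isCartan n) g' (sr c')) = wt (z, s') + wt (z, s')) :
    g * cs.simple c * g⁻¹ = g' * cs.simple c' * g'⁻¹ := by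
  have hW : Finite W := finite_W cs
  apply conj_simple_eq cs (isCartan n)
  by_cases h1 : s = s'
  · left
    apply ee_injective
    rw [e, e', h1]
  · right
    apply ee_injective
    have h2 : (z, s) = ng (z, s') := by
      unfold ng
      cases s <;> cases s' <;> simp_all
    rw [e, ee_neg, e', h2, wt_ng]
    abel

end TypeB

/-! ### Type `F₄` -/

section TypeF

variable {W : Type*} [Group W] (cs : CoxeterSystem CoxeterMatrix.F₄ W) {J₀ : Set (Fin 4)} {LL : Set (Fin 4) → Prop}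

/-- A Cartan matrix of type `F₄`. -/
def AF : Fin 4 → Fin 4 → ℤ := !![2, -1, 0, 0; -1, 2, -1, 0; 0, -2, 2, -1; 0, 0, -1, 2]

set_option backward.isDefEq.respectTransparency false in
theorem isCartanF : IsCartan CoxeterMatrix.F₄ AF := by
  constructor <;> decide +kernel

/-- The simple reflections. -/
def rf (k : Fin 4) (x : Fin 4 → ℤ) : Fin 4 → ℤ := fun m =>
  if m = k then x m - (AF k 0 * x 0 + AF k 1 * x 1 + AF k 2 * x 2 + AF k 3 * x 3) else x m

theorem rep_eq_rf (k : Fin 4) (x : Fin 4 → ℤ) : rep cs isCartanF (cs.simple k) x = rf k x := by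
  funext m
  unfold rf
  by_cases h : m = k
  · rw [if_pos h, h, rep_simple_apply_self]
    unfold pairing
    rw [Fin.sum_univ_four]
  · rw [if_neg h, rep_simple_apply _ _ _ _ _ h]

/-- The vector with given coordinates. -/
def vv (a b c d : ℤ) : Fin 4 → ℤ := ![a, b, c, d]

/-- The positive roots. -/
def posF : List (Fin 4 → ℤ) := [
  vv 0 0 0 1, vv 0 0 1 0, vv 0 0 1 1, vv 0 1 0 0,
  vv 0 1 1 0, vv 0 1 1 1, vv 0 1 2 0, vv 0 1 2 1,
  vv 0 1 2 2, vv 1 0 0 0, vv 1 1 0 0, vv 1 1 1 0,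
  vv 1 1 1 1, vv 1 1 2 0, vv 1 1 2 1, vv 1 1 2 2,
  vv 1 2 2 0, vv 1 2 2 1, vv 1 2 2 2, vv 1 2 3 1,
  vv 1 2 3 2, vv 1 2 4 2, vv 1 3 4 2, vv 2 3 4 2]

/-- The roots. -/
def rootsF : List (Fin 4 → ℤ) := posF ++ posF.map (fun x => -x)

theorem sr_mem_F : ∀ k : Fin 4, (sr k : Fin 4 → ℤ) ∈ rootsF := by
  decide +kernel

theorem rf_mem_F : ∀ x ∈ rootsF, ∀ k : Fin 4, rf k x ∈ rootsF := by
  decide +kernel

theorem mem_rootsF {x : Fin 4 → ℤ} (hx : IsRoot cs isCartanF x) : x ∈ rootsF := by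
  obtain ⟨w, i, rfl⟩ := hx
  induction w using cs.simple_induction_left with
  | one =>
    rw [map_one, Module.End.one_apply]
    exact sr_mem_F i
  | mul_simple_left w j ih =>
    rw [rep_mul_apply, rep_eq_rf]
    exact rf_mem_F _ ih j

include cs in
theorem finite_WF : Finite W := by
  have h1 : Function.Injective (fun (w : W) (i : Fin 4) =>
      (⟨rep cs isCartanF w (sr i), mem_rootsF cs ⟨w, i, rfl⟩⟩ : {x // x ∈ rootsF})) := by
    intro w w' e
    apply rep_injective cs isCartanF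
    refine LinearMap.pi_ext' fun i => LinearMap.ext_ring ?_
    have h2 := congrArg Subtype.val (congrFun e i)
    exact h2
  have : Finite {x // x ∈ rootsF} := by
    have h3 : {x | x ∈ rootsF}.Finite := List.finite_toSet rootsF
    exact h3
  exact Finite.of_injective _ h1

/-- The table for the first and the last node. -/
theorem tabF : ∀ x ∈ rootsF,
    (x 0 = 0 → ∃ c, rf 0 x c = 0 ∨ rf 3 (rf 0 x) c = 0 ∨ rf 3 (rf 2 (rf 0 x)) c = 0) ∧
    (x 1 = 0 → ∃ c, rf 1 x c = 0) ∧ (x 2 = 0 → ∃ c, rf 2 x c = 0) ∧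
    (x 3 = 0 → ∃ c, rf 3 x c = 0 ∨ rf 0 (rf 3 x) c = 0 ∨ rf 0 (rf 1 (rf 3 x)) c = 0) := by
  decide +kernel

/-- **Type `F₄`**: every node outside `J₀` is good. -/
theorem goodF (hLL : ∀ L, L ≠ Set.univ → LL L) {i : Fin 4} (hi : i ∉ J₀) : Good cs J₀ LL i := by
  have hW : Finite W := finite_WF cs
  by_cases hJ : insert i J₀ = Set.univ
  swap
  · exact good_of_subset (hLL _ hJ) (Set.subset_insert _ _) (Set.mem_insert _ _)
  have hJ' : ∀ k, k ≠ i → k ∈ J₀ := by
    intro k hk
    have h1 : k ∈ insert i J₀ := by rw [hJ]; trivial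
    rcases h1 with h1 | h1
    · exact absurd h1 hk
    · exact h1
  have hL : ∀ c : Fin 4, LL {k | k ≠ c} := fun c => hLL _ (fun h => by
    have : c ∈ {k : Fin 4 | k ≠ c} := by rw [h]; trivial
    exact this rfl)
  refine good_of_supp cs isCartanF ?_
  intro x hx hsx
  have hxi : x i = 0 := hsx i hi
  have ht := tabF x (mem_rootsF cs hx)
  suffices H : ∃ v ∈ WJ cs J₀, ∃ c, rep cs isCartanF v (rep cs isCartanF (cs.simple i) x) c = 0 by
    obtain ⟨v, hv, c, hc⟩ := H
    refine ⟨v, hv, {k | k ≠ c}, hL c, ?_⟩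
    intro k hk
    have hk' : k = c := by
      by_contra h1
      exact hk h1
    rw [hk', hc]
  have h0 : ∀ c, rf i x c = 0 →
      ∃ v ∈ WJ cs J₀, ∃ c, rep cs isCartanF v (rep cs isCartanF (cs.simple i) x) c = 0 := by
    intro c hc
    exact ⟨1, one_mem _, c, by rw [map_one, Module.End.one_apply, rep_eq_rf]; exact hc⟩
  have h1 : ∀ k, k ≠ i → ∀ c, rf k (rf i x) c = 0 →
      ∃ v ∈ WJ cs J₀, ∃ c, rep cs isCartanF v (rep cs isCartanF (cs.simple i) x) c = 0 := by
    intro k hk c hc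
    exact ⟨cs.simple k, simple_mem_WJ' (hJ' k hk), c, by rw [rep_eq_rf, rep_eq_rf]; exact hc⟩
  have h2 : ∀ k, k ≠ i → ∀ m, m ≠ i → ∀ c, rf k (rf m (rf i x)) c = 0 →
      ∃ v ∈ WJ cs J₀, ∃ c, rep cs isCartanF v (rep cs isCartanF (cs.simple i) x) c = 0 := by
    intro k hk m hm c hc
    refine ⟨cs.simple k * cs.simple m, mul_mem (simple_mem_WJ' (hJ' k hk)) (simple_mem_WJ' (hJ' m hm)), c, ?_⟩
    rw [rep_mul_apply, rep_eq_rf, rep_eq_rf, rep_eq_rf]
    exact hc
  obtain ⟨t0, t1, t2, t3⟩ := ht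
  have hcase : ∀ i : Fin 4, i = 0 ∨ i = 1 ∨ i = 2 ∨ i = 3 := by decide
  rcases hcase i with rfl | rfl | rfl | rfl
  · obtain ⟨c, hc | hc | hc⟩ := t0 hxi
    · exact h0 c hc
    · exact h1 3 (by decide) c hc
    · exact h2 3 (by decide) 2 (by decide) c hc
  · obtain ⟨c, hc⟩ := t1 hxi
    exact h0 c hc
  · obtain ⟨c, hc⟩ := t2 hxi
    exact h0 c hc
  · obtain ⟨c, hc | hc | hc⟩ := t3 hxi
    · exact h0 c hc
    · exact h1 0 (by decide) c hc
    · exact h2 0 (by decide) 1 (by decide) c hc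

/-- **Type `F₄` with a graph automorphism**: the nodes 1, 2 are good for `J₀ = {0, 3}`. -/
theorem goodF_graph (h03 : LL {0, 3}) (h12 : LL {1, 2}) {i : Fin 4} (hi : i = 1 ∨ i = 2) :
    Good cs {0, 3} LL i := by
  have hW : Finite W := finite_WF cs
  refine good_of_supp cs isCartanF ?_
  intro x hx hsx
  have hx1 : x 1 = 0 := hsx 1 (by simp)
  have hx2 : x 2 = 0 := hsx 2 (by simp)
  have key : ∀ x ∈ rootsF, x 1 = 0 → x 2 = 0 →
      (rf 1 x 1 = 0 ∧ rf 1 x 2 = 0 ∨ rf 0 (rf 1 x) 0 = 0 ∧ rf 0 (rf 1 x) 3 = 0) ∧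
      (rf 2 x 1 = 0 ∧ rf 2 x 2 = 0 ∨ rf 3 (rf 2 x) 0 = 0 ∧ rf 3 (rf 2 x) 3 = 0) := by
    decide +kernel
  obtain ⟨k1, k2⟩ := key x (mem_rootsF cs hx) hx1 hx2
  have hA : ∀ y : Fin 4 → ℤ, y 1 = 0 → y 2 = 0 → ∀ k, k ∉ ({0, 3} : Set (Fin 4)) → y k = 0 := by
    intro y h1 h2 k hk
    have h3 : k = 0 ∨ k = 1 ∨ k = 2 ∨ k = 3 := by revert k; decide
    rcases h3 with rfl | rfl | rfl | rfl
    · exact absurd (by simp) hk
    · exact h1
    · exact h2
    · exact absurd (by simp) hk
  have hB : ∀ y : Fin 4 → ℤ, y 0 = 0 → y 3 = 0 → ∀ k, k ∉ ({1, 2} : Set (Fin 4)) → y k = 0 := by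
    intro y h1 h2 k hk
    have h3 : k = 0 ∨ k = 1 ∨ k = 2 ∨ k = 3 := by revert k; decide
    rcases h3 with rfl | rfl | rfl | rfl
    · exact h1
    · exact absurd (by simp) hk
    · exact absurd (by simp) hk
    · exact h2
  rcases hi with rfl | rfl
  · rcases k1 with ⟨h1, h2⟩ | ⟨h1, h2⟩
    · refine ⟨1, one_mem _, {0, 3}, h03, ?_⟩
      rw [map_one, Module.End.one_apply, rep_eq_rf]
      exact hA _ h1 h2
    · refine ⟨cs.simple 0, simple_mem_WJ' (by simp), {1, 2}, h12, ?_⟩
      rw [rep_eq_rf, rep_eq_rf]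
      exact hB _ h1 h2
  · rcases k2 with ⟨h1, h2⟩ | ⟨h1, h2⟩
    · refine ⟨1, one_mem _, {0, 3}, h03, ?_⟩
      rw [map_one, Module.End.one_apply, rep_eq_rf]
      exact hA _ h1 h2
    · refine ⟨cs.simple 3, simple_mem_WJ' (by simp), {1, 2}, h12, ?_⟩
      rw [rep_eq_rf, rep_eq_rf]
      exact hB _ h1 h2

end TypeF

end Cfsg.Agent.Omega.ML.Ex.WallGood

end

section


/-!
# THEOREM SC (OMEGA, #21116 of helper899): exact quadratic groups are self-centralising; K-free

`H` acts on the finite elementary abelian 2-group `M`, `O` is a 2-subgroup of `H`, `fo M A = |A| |C_M(A)|`.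

* `NOel M O` : `|E| |C_M(E)| ≤ |M|` for all elementary abelian `E ≤ O`;
* `Exact M A` : `A` is elementary abelian, quadratic on `M` and `|A| |C_M(A)| = |M|`;
* `Exact.self_central` : **THEOREM SC** if `NOel M O` and `A ≤ O` is `Exact`, then every element of `O` centralising
  `C_M(A)` is in `A`;
* `Exact.le_of_cv_le` : `A` `Exact`, `B ≤ O`, `C_M(A) ≤ C_M(B)` imply `B ≤ A`;
* `Exact.eq_of_cv_eq`, `Exact.normalizes`.
-/

set_option autoImplicit false

namespace Cfsg.Agent.Omega.Tools.ExactSC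

open Subgroup Cfsg.Agent.ClassTwoFusion.Quad Cfsg.Agent.Omega.NOThree.NoOver
open scoped Pointwise

variable {H : Type*} [Group H] {M : Type*} [Group M] [MulDistribMulAction H M]

variable (M) in
/-- no over-offenders among the elementary abelian subgroups of `O` -/
def NOel (O : Subgroup H) : Prop := ∀ E ≤ O, (∀ a ∈ E, a * a = 1) → fo M E ≤ Nat.card M

variable (M) in
/-- elementary abelian, quadratic, `|A| |C_M(A)| = |M|` -/
structure Exact (A : Subgroup H) : Prop where
  sq : ∀ a ∈ A, a * a = 1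
  quad : ∀ a ∈ A, ∀ b ∈ A, ∀ m : M, b • d a m = d a m
  eq : fo M A = Nat.card M

/-- groups of exponent two are commutative -/
theorem comm_of_sq {G : Type*} [Group G] {A : Subgroup G} (h : ∀ a ∈ A, a * a = 1) {a b : G} (ha : a ∈ A) (hb : b ∈ A) :
    a * b = b * a := by
  have h1 := h _ (mul_mem ha hb)
  have h2 := h a ha
  have h3 := h b hb
  calc a * b = a * b * ((b * a) * (b * a)) := by rw [h _ (mul_mem hb ha), mul_one]
    _ = a * (b * b) * a * (b * a) := by group
    _ = b * a := by rw [h3, mul_one, h2, one_mul]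

section Elem

variable (h2 : ∀ v : M, v * v = 1)
include h2

theorem vcomm (v w : M) : v * w = w * v :=
  comm_of_sq (A := (⊤ : Subgroup M)) (fun a _ => h2 a) (mem_top v) (mem_top w)

theorem vinv (v : M) : v⁻¹ = v := inv_eq_of_mul_eq_one_right (h2 v)

theorem vsmul (x : H) (v : M) : x • v = d x v * v := by
  unfold d
  rw [mul_assoc, h2, mul_one]

theorem vd_one_iff (x : H) (v : M) : d x v = 1 ↔ x • v = v := by
  unfold d
  rw [mul_eq_one_iff_eq_inv, vinv h2]

theorem vd_mul (x : H) (v w : M) : d x (v * w) = d x v * d x w := by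
  letI : CommGroup M := { ‹Group M› with mul_comm := vcomm h2 }
  unfold d
  rw [smul_mul']
  exact mul_mul_mul_comm _ _ _ _

theorem vd_smul (x a : H) (v : M) : x • d a v = d (x * a * x⁻¹) (x • v) := by
  unfold d
  rw [smul_mul', ← mul_smul, ← mul_smul]
  congr 2
  group

end Elem

/-- `m ↦ [m, x]` -/
def dh (h2 : ∀ v : M, v * v = 1) (x : H) : M →* M where
  toFun := d x
  map_one' := by unfold d; rw [smul_one, mul_one]
  map_mul' := vd_mul h2 x

@[simp] theorem dh_apply (h2 : ∀ v : M, v * v = 1) (x : H) (m : M) : dh h2 x m = d x m := rfl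

/-- The situation of the proof: `x` normalises `A`, centralises `C_M(A)`, `x² ∈ A`. -/
structure Sit (M : Type*) [Group M] [MulDistribMulAction H M] (A : Subgroup H) (x : H) : Prop where
  norm : ∀ a ∈ A, x * a * x⁻¹ ∈ A
  cent : ∀ m ∈ cv M (A : Set H), x • m = m
  sqm : x * x ∈ A
  no : ∀ E ≤ A, fo M E ≤ Nat.card M

namespace Sit

variable {A : Subgroup H} {x : H} (h2 : ∀ v : M, v * v = 1) (hA : Exact M A) (h : Sit M A x)

/-- `a ↦ a a^x` on `A` -/
def tw (hA : Exact M A) (h : Sit M A x) : A →* A where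
  toFun a := ⟨a * (x * a * x⁻¹), mul_mem a.2 (h.norm _ a.2)⟩
  map_one' := by ext; simp
  map_mul' := by
    intro a b
    ext
    have h1 : (b : H) * (x * a * x⁻¹) = (x * a * x⁻¹) * b := comm_of_sq hA.sq b.2 (h.norm _ a.2)
    change (a : H) * b * (x * (a * b) * x⁻¹) = (a * (x * a * x⁻¹)) * (b * (x * b * x⁻¹))
    calc (a : H) * b * (x * (a * b) * x⁻¹) = a * (b * (x * a * x⁻¹)) * (x * b * x⁻¹) := by group
      _ = a * ((x * a * x⁻¹) * b) * (x * b * x⁻¹) := by rw [h1]
      _ = _ := by group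

/-- `D = [A, x]` -/
def D (hA : Exact M A) (h : Sit M A x) : Subgroup H := (tw hA h).range.map A.subtype

/-- `A_x = C_A(x)` -/
def Ax (hA : Exact M A) (h : Sit M A x) : Subgroup H := (tw hA h).ker.map A.subtype

theorem mem_D {e : H} : e ∈ D hA h ↔ ∃ a ∈ A, a * (x * a * x⁻¹) = e := by
  constructor
  · rintro ⟨_, ⟨a, rfl⟩, rfl⟩
    exact ⟨a, a.2, rfl⟩
  · rintro ⟨a, ha, rfl⟩
    exact ⟨_, ⟨⟨a, ha⟩, rfl⟩, rfl⟩

theorem mem_Ax {a : H} : a ∈ Ax hA h ↔ a ∈ A ∧ x * a * x⁻¹ = a := by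
  constructor
  · rintro ⟨b, hb, rfl⟩
    refine ⟨b.2, ?_⟩
    have h1 : (b : H) * (x * b * x⁻¹) = 1 := congrArg Subtype.val (MonoidHom.mem_ker.1 hb)
    have h3 : (b : H)⁻¹ = b := inv_eq_of_mul_eq_one_right (hA.sq _ b.2)
    change x * (b : H) * x⁻¹ = b
    rw [← inv_eq_of_mul_eq_one_right h1, h3]
  · rintro ⟨ha, h1⟩
    refine ⟨⟨a, ha⟩, ?_, rfl⟩
    rw [SetLike.mem_coe, MonoidHom.mem_ker]
    ext
    change a * (x * a * x⁻¹) = 1
    rw [h1, hA.sq a ha]

theorem D_le : D hA h ≤ A := by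
  rintro _ ⟨b, _, rfl⟩
  exact b.2

theorem Ax_le : Ax hA h ≤ A := by
  rintro _ ⟨b, _, rfl⟩
  exact b.2

theorem card_D_Ax [Finite H] : Nat.card (D hA h) * Nat.card (Ax hA h) = Nat.card A := by
  have h1 : Nat.card (D hA h) = Nat.card (tw hA h).range :=
    (Nat.card_congr ((tw hA h).range.equivMapOfInjective _ A.subtype_injective).toEquiv).symm
  have h3 : Nat.card (Ax hA h) = Nat.card (tw hA h).ker :=
    (Nat.card_congr ((tw hA h).ker.equivMapOfInjective _ A.subtype_injective).toEquiv).symm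
  rw [h1, h3, Subgroup.card_eq_card_quotient_mul_card_subgroup (tw hA h).ker]
  congr 1
  exact Nat.card_congr (QuotientGroup.quotientKerEquivRange (tw hA h)).toEquiv.symm

include hA h h2

theorem d_mem {a : H} (ha : a ∈ A) (m : M) : d a m ∈ cv M (A : Set H) := fun b hb => hA.quad a ha b hb m

/-- `(1)` -/
theorem eq1 {a : H} (ha : a ∈ A) (m : M) : d a m = d (x * a * x⁻¹) (x • m) := by
  rw [← vd_smul h2]
  exact (h.cent _ (d_mem h2 hA h ha m)).symm

/-- `(a)` -/
theorem range_le : (dh h2 x).range ≤ cv M (Ax hA h : Set H) := by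
  rintro _ ⟨m, rfl⟩ a ha
  obtain ⟨ha1, ha2⟩ := (mem_Ax hA h).1 ha
  have h1 := eq1 h2 hA h ha1 m
  rw [ha2, vsmul h2 x m, vd_mul h2] at h1
  have h3 : d a (d x m) = 1 := by
    have h4 : d a (d x m) * d a m * (d a m)⁻¹ = 1 := by rw [← h1, mul_inv_cancel]
    rwa [mul_inv_cancel_right] at h4
  exact (vd_one_iff h2 _ _).1 h3

/-- `M_x` -/
def Mx (_ : Exact M A) (_ : Sit M A x) : Subgroup M := (cv M (A : Set H)).comap (dh h2 x)

/-- `(b)` -/
theorem Mx_le : Mx h2 hA h ≤ cv M (D hA h : Set H) := by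
  intro m hm
  have hm' : d x m ∈ cv M (A : Set H) := hm
  rintro _ he
  obtain ⟨a, ha, rfl⟩ := (mem_D hA h).1 he
  have h1 := eq1 h2 hA h ha m
  have h3 : d (x * a * x⁻¹) (d x m) = 1 := (vd_one_iff h2 _ _).2 (hm' _ (h.norm a ha))
  rw [vsmul h2 x m, vd_mul h2, h3, one_mul] at h1
  have h4 : a • m = (x * a * x⁻¹) • m := by rw [vsmul h2 a, vsmul h2 (x * a * x⁻¹), h1]
  rw [mul_smul, ← h4, ← mul_smul, hA.sq a ha, one_smul]

/-- `|M : M_x| |[M,x] ∩ C| = |[M,x]|` -/
theorem card_Mx [Finite M] : Nat.card (Mx h2 hA h) * Nat.card (dh h2 x).range =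
    Nat.card M * Nat.card ((dh h2 x).range ⊓ cv M (A : Set H) : Subgroup M) := by
  have h1 : Nat.card M = Nat.card (dh h2 x).range * Nat.card (dh h2 x).ker := by
    rw [Subgroup.card_eq_card_quotient_mul_card_subgroup (dh h2 x).ker]
    congr 1
    exact Nat.card_congr (QuotientGroup.quotientKerEquivRange (dh h2 x)).toEquiv
  have h3 : Nat.card (Mx h2 hA h) =
      Nat.card ((dh h2 x).range ⊓ cv M (A : Set H) : Subgroup M) * Nat.card (dh h2 x).ker := by
    have hk : (dh h2 x).ker ≤ Mx h2 hA h := by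
      intro m hm
      change d x m ∈ cv M (A : Set H)
      rw [show d x m = 1 from hm]
      exact one_mem _
    set f : Mx h2 hA h →* M := (dh h2 x).comp (Mx h2 hA h).subtype with hf
    have hr : f.range = (dh h2 x).range ⊓ cv M (A : Set H) := by
      apply le_antisymm
      · rintro _ ⟨m, rfl⟩
        exact ⟨⟨m, rfl⟩, m.2⟩
      · rintro _ ⟨⟨m, rfl⟩, hm⟩
        exact ⟨⟨m, hm⟩, rfl⟩
    have hker : Nat.card f.ker = Nat.card (dh h2 x).ker := by
      have : f.ker = (dh h2 x).ker.subgroupOf (Mx h2 hA h) := by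
        ext m
        rfl
      rw [this]
      exact Nat.card_congr (Subgroup.subgroupOfEquivOfLe hk).toEquiv
    rw [Subgroup.card_eq_card_quotient_mul_card_subgroup f.ker, hker, ← hr]
    congr 1
    exact Nat.card_congr (QuotientGroup.quotientKerEquivRange f).toEquiv
  rw [h3, h1]
  ring

/-- `(c)`: all inequalities are equalities -/
theorem eqs [Finite H] [Finite M] : Mx h2 hA h = cv M (D hA h : Set H) ∧
    Nat.card (D hA h) * Nat.card (cv M (D hA h : Set H)) = Nat.card M ∧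
    (dh h2 x).range ⊔ cv M (A : Set H) = cv M (Ax hA h : Set H) ∧
    Nat.card (Ax hA h) * Nat.card (cv M (Ax hA h : Set H)) = Nat.card M := by
  have e1 := h.no _ (D_le hA h)
  have e2 := h.no _ (Ax_le hA h)
  have e3 := hA.eq
  have e4 := card_D_Ax hA h
  have e5 := card_Mx h2 hA h
  have hCA : cv M (A : Set H) ≤ cv M (Ax hA h : Set H) := cv_anti (SetLike.coe_subset_coe.2 (Ax_le hA h))
  have e6 : Nat.card ((dh h2 x).range ⊔ cv M (A : Set H) : Subgroup M) *
      Nat.card ((dh h2 x).range ⊓ cv M (A : Set H) : Subgroup M) =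
      Nat.card (dh h2 x).range * Nat.card (cv M (A : Set H)) := by
    apply card_sup_mul
    intro a _
    rw [mem_normalizer_iff]
    intro b
    rw [vcomm h2 a b, mul_inv_cancel_right]
  have e7 : Nat.card (Mx h2 hA h) ≤ Nat.card (cv M (D hA h : Set H)) := card_le_of_le (Mx_le h2 hA h)
  have hsup : (dh h2 x).range ⊔ cv M (A : Set H) ≤ cv M (Ax hA h : Set H) := sup_le (range_le h2 hA h) hCA
  have e8 : Nat.card ((dh h2 x).range ⊔ cv M (A : Set H) : Subgroup M) ≤ Nat.card (cv M (Ax hA h : Set H)) :=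
    card_le_of_le hsup
  unfold fo at e1 e2 e3
  set nD := Nat.card (D hA h)
  set nAx := Nat.card (Ax hA h)
  set nA := Nat.card A
  set nM := Nat.card M
  set nC := Nat.card (cv M (A : Set H))
  set nCD := Nat.card (cv M (D hA h : Set H))
  set nCAx := Nat.card (cv M (Ax hA h : Set H))
  set nMx := Nat.card (Mx h2 hA h)
  set nR := Nat.card (dh h2 x).range
  set nI := Nat.card ((dh h2 x).range ⊓ cv M (A : Set H) : Subgroup M)
  set nS := Nat.card ((dh h2 x).range ⊔ cv M (A : Set H) : Subgroup M)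
  have pD : 0 < nD := Nat.card_pos
  have pAx : 0 < nAx := Nat.card_pos
  have pM : 0 < nM := Nat.card_pos
  have pC : 0 < nC := Nat.card_pos
  have pCD : 0 < nCD := Nat.card_pos
  have pMx : 0 < nMx := Nat.card_pos
  have pI : 0 < nI := Nat.card_pos
  have pS : 0 < nS := Nat.card_pos
  have pCAx : 0 < nCAx := Nat.card_pos
  -- `nMx * nS = nM * nC`
  have f1 : nMx * nS = nM * nC := by
    have : nMx * nS * nI = nM * nC * nI := by
      calc nMx * nS * nI = nMx * (nS * nI) := by ring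
        _ = nMx * nR * nC := by rw [e6]; ring
        _ = nM * nC * nI := by rw [e5]; ring
    exact Nat.eq_of_mul_eq_mul_right pI this
  -- `nS ≤ nCAx`, `nAx * nCAx ≤ nM = nD nAx nC` so `nCAx ≤ nD nC`
  have f2 : nCAx ≤ nD * nC := by
    have : nAx * nCAx ≤ nAx * (nD * nC) := by
      calc nAx * nCAx ≤ nM := e2
        _ = nAx * (nD * nC) := by rw [← e3, ← e4]; ring
    exact Nat.le_of_mul_le_mul_left this pAx
  -- `nM ≤ nMx nD`
  have f3 : nM ≤ nMx * nD := by
    have : nM * nC ≤ nMx * nD * nC := by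
      calc nM * nC = nMx * nS := f1.symm
        _ ≤ nMx * (nD * nC) := Nat.mul_le_mul_left _ (e8.trans f2)
        _ = _ := by ring
    exact Nat.le_of_mul_le_mul_right this pC
  have f4 : nCD ≤ nMx := by
    have : nD * nCD ≤ nD * nMx := (e1.trans f3).trans (by rw [mul_comm])
    exact Nat.le_of_mul_le_mul_left this pD
  have f5 : nMx = nCD := le_antisymm e7 f4
  have f6 : nD * nCD = nM := le_antisymm e1 (by rw [← f5, mul_comm]; exact f3)
  have f7 : nS = nD * nC := by
    have : nMx * nS = nMx * (nD * nC) := by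
      rw [f1, ← f6, ← f5]; ring
    exact Nat.eq_of_mul_eq_mul_left pMx this
  have f8 : nS = nCAx := le_antisymm e8 (f2.trans f7.ge)
  refine ⟨eq_of_le_of_card_ge (Mx_le h2 hA h) f4, f6, eq_of_le_of_card_ge hsup f8.ge, ?_⟩
  rw [← f8, f7, ← e3, ← e4]
  ring

/-- `(d)` -/
theorem mem_D_of [Finite H] [Finite M] {e : H} (he : e ∈ A) (hfix : ∀ m ∈ cv M (D hA h : Set H), e • m = m) :
    e ∈ D hA h := by
  obtain ⟨-, e1, -, -⟩ := eqs h2 hA h
  have hle : D hA h ⊔ zpowers e ≤ A := sup_le (D_le hA h) (zpowers_le.2 he)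
  have e2 := h.no _ hle
  have h3 : cv M ((D hA h ⊔ zpowers e : Subgroup H) : Set H) = cv M (D hA h : Set H) := by
    rw [cv_sup]
    refine inf_eq_left.2 fun m hm => ?_
    have h4 : zpowers e ≤ MulAction.stabilizer H m := zpowers_le.2 (MulAction.mem_stabilizer_iff.2 (hfix m hm))
    exact fun y hy => MulAction.mem_stabilizer_iff.1 (h4 hy)
  unfold fo at e2
  rw [h3, ← e1] at e2
  have h5 : Nat.card (D hA h ⊔ zpowers e : Subgroup H) ≤ Nat.card (D hA h) :=
    Nat.le_of_mul_le_mul_right e2 Nat.card_pos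
  have h6 : D hA h = D hA h ⊔ zpowers e := eq_of_le_of_card_ge le_sup_left h5
  rw [h6]
  exact mem_sup_right (mem_zpowers e)

/-- `(e)` -/
theorem sq_mem_D [Finite H] [Finite M] : x * x ∈ D hA h := by
  obtain ⟨e1, -, -, -⟩ := eqs h2 hA h
  refine mem_D_of h2 hA h h.sqm fun m hm => ?_
  rw [← e1] at hm
  have h1 : x • d x m = d x m := h.cent _ hm
  rw [mul_smul, vsmul h2 x m, smul_mul', h1, vsmul h2 x m, ← mul_assoc, h2, one_mul]

/-- `(f)` -/
theorem false_of_sq [Finite H] [Finite M] (hx : x ∉ A) (hxx : x * x = 1)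
    (hno : ∀ E : Subgroup H, E ≤ A ⊔ zpowers x → (∀ a ∈ E, a * a = 1) → fo M E ≤ Nat.card M) : False := by
  obtain ⟨-, -, e3, e4⟩ := eqs h2 hA h
  set E : Subgroup H := Ax hA h ⊔ zpowers x with hE
  have hxc : ∀ a ∈ Ax hA h, x * a = a * x := by
    intro a ha
    have := ((mem_Ax hA h).1 ha).2
    calc x * a = x * a * x⁻¹ * x := by group
      _ = a * x := by rw [this]
  have hn : Ax hA h ≤ normalizer (zpowers x : Set H) := by
    intro a ha
    have hc : Commute a x := (hxc a ha).symm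
    rw [mem_normalizer_iff]
    intro b
    constructor
    · intro hb
      obtain ⟨k, rfl⟩ := mem_zpowers_iff.1 hb
      rw [(hc.zpow_right k).eq, mul_inv_cancel_right]
      exact hb
    · intro hb
      obtain ⟨k, hk⟩ := mem_zpowers_iff.1 hb
      have : b = x ^ k := by
        have h5 : a * b = x ^ k * a := by rw [hk]; group
        rw [← (hc.zpow_right k).eq] at h5
        exact mul_left_cancel h5
      rw [this]
      exact zpow_mem (mem_zpowers x) k
  -- elements of `E`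
  have hmem : ∀ y ∈ E, ∃ a ∈ Ax hA h, y = a ∨ y = a * x := by
    intro y hy
    have hy' : y ∈ ((Ax hA h ⊔ zpowers x : Subgroup H) : Set H) := hy
    rw [Subgroup.coe_mul_of_left_le_normalizer_right _ _ hn] at hy'
    obtain ⟨a, ha, b, hb, rfl⟩ := hy'
    refine ⟨a, ha, ?_⟩
    obtain ⟨k, rfl⟩ := mem_zpowers_iff.1 hb
    rcases Int.even_or_odd' k with ⟨l, rfl | rfl⟩
    · left
      change a * x ^ (2 * l) = a
      rw [zpow_mul, zpow_two, hxx, one_zpow, mul_one]
    · right
      change a * x ^ (2 * l + 1) = a * x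
      rw [zpow_add, zpow_mul, zpow_two, hxx, one_zpow, one_mul, zpow_one]
  have hEsq : ∀ y ∈ E, y * y = 1 := by
    intro y hy
    obtain ⟨a, ha, rfl | rfl⟩ := hmem y hy
    · exact hA.sq _ (Ax_le hA h ha)
    · calc a * x * (a * x) = a * (x * a) * x := by group
        _ = a * a * (x * x) := by rw [hxc a ha]; group
        _ = 1 := by rw [hxx, hA.sq _ (Ax_le hA h ha), mul_one]
  have hno' := hno E (sup_le ((Ax_le hA h).trans le_sup_left) le_sup_right) hEsq
  have hcvE : cv M (Ax hA h : Set H) ≤ cv M (E : Set H) := by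
    rw [hE, cv_sup]
    refine le_inf le_rfl ?_
    rw [← e3]
    refine sup_le ?_ ?_
    · rintro _ ⟨m, rfl⟩
      have h4 : x • d x m = d x m := by
        unfold d
        rw [smul_mul', ← mul_smul, hxx, one_smul, vcomm h2]
      have h5 : zpowers x ≤ MulAction.stabilizer H (d x m) := zpowers_le.2 (MulAction.mem_stabilizer_iff.2 h4)
      exact fun y hy => MulAction.mem_stabilizer_iff.1 (h5 hy)
    · intro m hm
      have h5 : zpowers x ≤ MulAction.stabilizer H m := zpowers_le.2 (MulAction.mem_stabilizer_iff.2 (h.cent m hm))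
      exact fun y hy => MulAction.mem_stabilizer_iff.1 (h5 hy)
  have hcard : Nat.card (Ax hA h) < Nat.card E := by
    have hle : Ax hA h ≤ E := le_sup_left
    rcases (card_le_of_le hle).lt_or_eq with h5 | h5
    · exact h5
    · exfalso
      have h6 : Ax hA h = E := eq_of_le_of_card_ge hle h5.ge
      apply hx
      apply Ax_le hA h
      rw [h6]
      exact mem_sup_right (mem_zpowers x)
  have h7 : Nat.card M < fo M E := by
    unfold fo
    calc Nat.card M = Nat.card (Ax hA h) * Nat.card (cv M (Ax hA h : Set H)) := e4.symm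
      _ < Nat.card E * Nat.card (cv M (Ax hA h : Set H)) := Nat.mul_lt_mul_of_pos_right hcard Nat.card_pos
      _ ≤ _ := Nat.mul_le_mul_left _ (card_le_of_le hcvE)
  omega

end Sit

/-- An element outside `A`, normalising `A`, with square in `A`. -/
theorem exists_sq_mem [Finite H] {T A : Subgroup H} (hT : IsPGroup 2 T) (hA : A < T) :
    ∃ b ∈ T, b ∈ normalizer (A : Set H) ∧ b ∉ A ∧ b * b ∈ A := by
  have : Fact (Nat.Prime 2) := ⟨Nat.prime_two⟩
  obtain ⟨y, hy, hyD⟩ := SetLike.exists_of_lt (Cfsg.Agent.SmallSimple.SylowMaxInter.lt_inf_normalizer hT hA)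
  obtain ⟨n, hn⟩ := hT ⟨y, hy.1⟩
  have hn' : y ^ 2 ^ n = 1 := by
    have := congrArg Subtype.val hn
    simpa using this
  have hex : ∃ n, y ^ 2 ^ n ∈ A := ⟨n, by rw [hn']; exact one_mem _⟩
  classical
  have h1 := Nat.find_spec hex
  have h0 : Nat.find hex ≠ 0 := by
    intro h0
    rw [h0, pow_zero, pow_one] at h1
    exact hyD h1
  obtain ⟨k, hk⟩ := Nat.exists_eq_succ_of_ne_zero h0
  have h2 := Nat.find_min hex (m := k) (by omega)
  rw [hk] at h1
  refine ⟨y ^ 2 ^ k, pow_mem hy.1 _, pow_mem hy.2 _, h2, ?_⟩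
  have e : y ^ 2 ^ k * y ^ 2 ^ k = y ^ 2 ^ (k + 1) := by
    rw [← pow_add, pow_succ, mul_two]
  rw [e]
  exact h1

/-- the pointwise stabiliser of `C` in `O` -/
def fx (O : Subgroup H) (C : Subgroup M) : Subgroup H where
  carrier := {y | y ∈ O ∧ ∀ m ∈ C, y • m = m}
  one_mem' := ⟨one_mem _, fun m _ => one_smul _ m⟩
  mul_mem' := fun {a b} ha hb => ⟨mul_mem ha.1 hb.1, fun m hm => by rw [mul_smul, hb.2 m hm, ha.2 m hm]⟩
  inv_mem' := fun {a} ha => ⟨inv_mem ha.1, fun m hm => by rw [inv_smul_eq_iff, ha.2 m hm]⟩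

/-- **THEOREM SC**: exact quadratic elementary abelian subgroups are self-centralising:  `C_O(C_M(A)) = A`. -/
theorem Exact.self_central [Finite H] [Finite M] (h2 : ∀ v : M, v * v = 1) {O A : Subgroup H} (hO : IsPGroup 2 O)
    (hNO : NOel M O) (hA : Exact M A) (hAO : A ≤ O) {x : H} (hx : x ∈ O) (hfix : ∀ m ∈ cv M (A : Set H), x • m = m) :
    x ∈ A := by
  by_contra hxA
  set Y : Subgroup H := fx O (cv M (A : Set H)) with hY
  have hYO : Y ≤ O := fun y hy => hy.1
  have hAY : A ≤ Y := fun a ha => ⟨hAO ha, fun m hm => hm a ha⟩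
  have hxY : x ∈ Y := ⟨hx, hfix⟩
  have hlt : A < Y := lt_of_le_of_ne hAY fun h => hxA (by rw [h]; exact hxY)
  obtain ⟨b, hbY, hbN, hbA, hbb⟩ := exists_sq_mem (hO.to_le hYO) hlt
  have hnoA : ∀ E ≤ A, fo M E ≤ Nat.card M := fun E hE => hNO E (hE.trans hAO) fun a ha => hA.sq a (hE ha)
  have hs : Sit M A b :=
    { norm := fun a ha => (mem_normalizer_iff.1 hbN a).1 ha
      cent := hbY.2
      sqm := hbb
      no := hnoA }
  obtain ⟨a, ha, hab⟩ := (Sit.mem_D hA hs).1 (hs.sq_mem_D h2 hA)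
  -- `c = a b` is an involution outside `A`
  have hcc : a * b * (a * b) = 1 := by
    calc a * b * (a * b) = a * (b * a * b⁻¹) * (b * b) := by group
      _ = b * b * (b * b) := by rw [hab]
      _ = 1 := hA.sq _ hbb
  have hcA : a * b ∉ A := fun h => hbA ((mul_mem_cancel_left ha).1 h)
  have hcY : a * b ∈ Y := mul_mem (hAY ha) hbY
  have hs' : Sit M A (a * b) :=
    { norm := fun e he => by
        have h1 : a * (b * e * b⁻¹) * a⁻¹ ∈ A := mul_mem (mul_mem ha (hs.norm e he)) (inv_mem ha)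
        have h3 : a * b * e * (a * b)⁻¹ = a * (b * e * b⁻¹) * a⁻¹ := by group
        rw [h3]
        exact h1
      cent := hcY.2
      sqm := by rw [hcc]; exact one_mem _
      no := hnoA }
  exact hs'.false_of_sq h2 hA hcA hcc fun E hE hE' =>
    hNO E (hE.trans (sup_le hAO (zpowers_le.2 (hYO hcY)))) hE'

section Cor

variable [Finite H] [Finite M] (h2 : ∀ v : M, v * v = 1) {O A B : Subgroup H} (hO : IsPGroup 2 O) (hNO : NOel M O)
include h2 hO hNO

/-- `C_M(A) ≤ C_M(B)` implies `B ≤ A` -/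
theorem Exact.le_of_cv_le (hA : Exact M A) (hAO : A ≤ O) (hBO : B ≤ O) (h : cv M (A : Set H) ≤ cv M (B : Set H)) :
    B ≤ A := fun b hb => hA.self_central h2 hO hNO hAO (hBO hb) fun _ hm => h hm b hb

/-- exact groups with the same fixed points are equal -/
theorem Exact.eq_of_cv_eq (hA : Exact M A) (hB : Exact M B) (hAO : A ≤ O) (hBO : B ≤ O)
    (h : cv M (A : Set H) = cv M (B : Set H)) : A = B :=
  le_antisymm (hB.le_of_cv_le h2 hO hNO hBO hAO h.ge) (hA.le_of_cv_le h2 hO hNO hAO hBO h.le)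

/-- an element normalising `O` and `C_M(A)` normalises `A` -/
theorem Exact.normalizes (hA : Exact M A) (hAO : A ≤ O) {g : H} (hgO : ∀ y ∈ O, g * y * g⁻¹ ∈ O)
    (hgC : ∀ m ∈ cv M (A : Set H), g⁻¹ • m ∈ cv M (A : Set H)) {a : H} (ha : a ∈ A) : g * a * g⁻¹ ∈ A := by
  refine hA.self_central h2 hO hNO hAO (hgO a (hAO ha)) fun m hm => ?_
  have h1 : a • (g⁻¹ • m) = g⁻¹ • m := hgC m hm a ha
  rw [mul_smul, mul_smul, h1, smul_inv_smul]

end Cor

end Cfsg.Agent.Omega.Tools.ExactSC

end
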