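import Cfsg.Prelude.Def_Involutions
import Cfsg.Agent.MinSimple.Basic
import Cfsg.Agent.StrongEmb.Split
import Cfsg.Agent.Mrg.LargeExtra.CC.Basic
import Cfsg.Agent.Mrg.Omega.Assembly

section


/-!
# THEOREM SE (helper999, OMEGA #12471)

`G` finite, centralisers of involutions of characteristic 2, `S` a Sylow 2-subgroup, `z` a central
involution of `S`, `C_G(z) ≤ Y < G` and `z^G ∩ Y = z^Y`. Then `Y` is strongly embedded in `G`.

* `strong_of` : the abstract form (a "2-core" `R` for every involution `t`);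
* `strong` : for groups of characteristic 2 type.
-/

set_option autoImplicit false

namespace Cfsg.Agent.Omega.SE

open Subgroup Cfsg Cfsg.Agent.ZN Cfsg.Agent.MinSimple.MinParabolic Cfsg.Agent.MinSimple.VModule
open Cfsg.Agent.MinSimple.Basic
open scoped Pointwise

universe u

variable {G : Type u} [Group G]

/-- (1): commuting conjugates of `z` define the same conjugate of `Y`. -/
theorem mem_of_commute {z : G} {Y : Subgroup G} (hC : ∀ c : G, c * z = z * c → c ∈ Y)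
    (hcl : ∀ g : G, g * z * g⁻¹ ∈ Y → ∃ y ∈ Y, g * z * g⁻¹ = y * z * y⁻¹) {g h : G}
    (hc : (g * z * g⁻¹) * (h * z * h⁻¹) = (h * z * h⁻¹) * (g * z * g⁻¹)) : g⁻¹ * h ∈ Y := by
  have h1 : (g⁻¹ * h) * z * (g⁻¹ * h)⁻¹ ∈ Y := by
    apply hC
    have e1 : (g⁻¹ * h) * z * (g⁻¹ * h)⁻¹ * z =
        g⁻¹ * ((h * z * h⁻¹) * (g * z * g⁻¹)) * g := by group
    have e2 : z * ((g⁻¹ * h) * z * (g⁻¹ * h)⁻¹) =
        g⁻¹ * ((g * z * g⁻¹) * (h * z * h⁻¹)) * g := by group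
    rw [e1, e2, hc]
  obtain ⟨y, hy, h2⟩ := hcl _ h1
  have h3 : y⁻¹ * (g⁻¹ * h) ∈ Y := by
    apply hC
    have e1 : y⁻¹ * (g⁻¹ * h) * z = y⁻¹ * ((g⁻¹ * h) * z * (g⁻¹ * h)⁻¹) * (g⁻¹ * h) := by group
    rw [e1, h2]; group
  have h4 := Y.mul_mem hy h3
  rwa [mul_inv_cancel_left] at h4

variable [Finite G]

/-- A 2-subgroup lies in a conjugate of the Sylow 2-subgroup `S`. -/
theorem exists_conj_sylow (S : Sylow 2 G) {T : Subgroup G} (hT : IsPGroup 2 T) :
    ∃ h : G, ∀ x ∈ T, h⁻¹ * x * h ∈ (S : Subgroup G) := by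
  have hf : Fact (Nat.Prime 2) := ⟨Nat.prime_two⟩
  obtain ⟨P, hP⟩ := hT.exists_le_sylow
  obtain ⟨h, rfl⟩ := MulAction.exists_smul_eq G S P
  refine ⟨h, fun x hx => ?_⟩
  have h1 : x ∈ (h • S : Sylow 2 G) := hP hx
  rw [Sylow.smul_def] at h1
  have h2 : x ∈ MulAut.conj h • (S : Subgroup G) := h1
  rw [Subgroup.mem_pointwise_smul_iff_inv_smul_mem] at h2
  simpa [MulAut.smul_def, mul_assoc] using h2

/-- An element of 2-power order of `Y ≥ S` is conjugate in `Y` into `S`. -/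
theorem exists_conj_mem (S : Sylow 2 G) {Y : Subgroup G} (hSY : (S : Subgroup G) ≤ Y) {t : G}
    (ht : t ∈ Y) (ht2 : t ^ 2 = 1) : ∃ y ∈ Y, y⁻¹ * t * y ∈ (S : Subgroup G) := by
  have hf : Fact (Nat.Prime 2) := ⟨Nat.prime_two⟩
  obtain ⟨y, hy⟩ := exists_conj_sylow (G := Y) (S.subtype hSY)
    (T := zpowers (⟨t, ht⟩ : Y)) (isPGroup_zpowers (Subtype.ext (by simpa using ht2)))
  refine ⟨y, y.2, ?_⟩
  have h1 := hy _ (mem_zpowers _)
  rw [Sylow.coe_subtype, mem_subgroupOf] at h1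
  simpa using h1

/-- The common part of (2) and (3). -/
theorem exists_rep (S : Sylow 2 G) {z : G} (hS : ∀ s ∈ (S : Subgroup G), s * z = z * s)
    (hz : z ^ 2 = 1) {Y : Subgroup G} (hC : ∀ c : G, c * z = z * c → c ∈ Y)
    (hcl : ∀ g : G, g * z * g⁻¹ ∈ Y → ∃ y ∈ Y, g * z * g⁻¹ = y * z * y⁻¹)
    {t : G} (ht : t ^ 2 = 1) {R : Subgroup G} (hR : IsPGroup 2 R)
    (hRn : ∀ c : G, c * t = t * c → ∀ r ∈ R, c * r * c⁻¹ ∈ R) {g : G} (hg : g⁻¹ * t * g ∈ Y) :
    ∃ h : G, g⁻¹ * h ∈ Y ∧ ∀ r ∈ R, r * (h * z * h⁻¹) = (h * z * h⁻¹) * r := by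
  have hf : Fact (Nat.Prime 2) := ⟨Nat.prime_two⟩
  have hSY : (S : Subgroup G) ≤ Y := fun s hs => hC s (hS s hs)
  obtain ⟨y, hy, h1⟩ := exists_conj_mem S hSY hg (by
    have e : (g⁻¹ * t * g) ^ 2 = g⁻¹ * t ^ 2 * g := by simp only [sq]; group
    rw [e, ht]; group)
  -- `r' = (g y) z (g y)⁻¹` commutes with `t`
  have h2 := hS _ h1
  set r' : G := (g * y) * z * (g * y)⁻¹ with hr'
  have h3 : r' * t = t * r' := by
    have e1 : r' * t = (g * y) * (z * (y⁻¹ * (g⁻¹ * t * g) * y)) * (g * y)⁻¹ := by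
      rw [hr']; group
    have e2 : t * r' = (g * y) * ((y⁻¹ * (g⁻¹ * t * g) * y) * z) * (g * y)⁻¹ := by
      rw [hr']; group
    rw [e1, e2, h2]
  have hr2 : r' ^ 2 = 1 := by
    have e : r' ^ 2 = (g * y) * z ^ 2 * (g * y)⁻¹ := by rw [hr']; simp only [sq]; group
    rw [e, hz]; group
  have h4 : IsPGroup 2 ((R ⊔ zpowers r' : Subgroup G)) := by
    refine IsPGroup.to_sup_of_normal_left' hR (isPGroup_zpowers hr2) ?_
    rw [zpowers_le, mem_normalizer_iff]
    intro x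
    refine ⟨fun hx => hRn r' h3 x hx, fun hx => ?_⟩
    have h5 := hRn r'⁻¹ (by
      have : Commute r' t := h3
      exact this.inv_left.eq) _ hx
    have e : r'⁻¹ * (r' * x * r'⁻¹) * (r'⁻¹)⁻¹ = x := by group
    rwa [e] at h5
  obtain ⟨h, hh⟩ := exists_conj_sylow S h4
  -- `h z h⁻¹` centralises `R ⊔ ⟨r'⟩`
  have h5 : ∀ x ∈ (R ⊔ zpowers r' : Subgroup G), x * (h * z * h⁻¹) = (h * z * h⁻¹) * x := by
    intro x hx
    have h6 := hS _ (hh x hx)
    have e1 : x * (h * z * h⁻¹) = h * ((h⁻¹ * x * h) * z) * h⁻¹ := by group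
    have e2 : (h * z * h⁻¹) * x = h * (z * (h⁻¹ * x * h)) * h⁻¹ := by group
    rw [e1, e2, h6]
  refine ⟨h, ?_, fun r hr => h5 r (mem_sup_left hr)⟩
  have h6 := mem_of_commute hC hcl (g := g * y) (h := h) (h5 r' (mem_sup_right (mem_zpowers r')))
  have h7 := Y.mul_mem hy h6
  have e : y * ((g * y)⁻¹ * h) = g⁻¹ * h := by group
  rwa [e] at h7

/-- **THEOREM SE**, abstract form. -/
theorem strong_of (S : Sylow 2 G) {z : G} (hS : ∀ s ∈ (S : Subgroup G), s * z = z * s)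
    (hz : z ^ 2 = 1) (hz1 : z ≠ 1) {Y : Subgroup G} (hY : Y ≠ ⊤)
    (hC : ∀ c : G, c * z = z * c → c ∈ Y)
    (hcl : ∀ g : G, g * z * g⁻¹ ∈ Y → ∃ y ∈ Y, g * z * g⁻¹ = y * z * y⁻¹)
    (hR : ∀ t : G, t ^ 2 = 1 → t ≠ 1 → ∃ R : Subgroup G, IsPGroup 2 R ∧ t ∈ R ∧
      (∀ c : G, c * t = t * c → ∀ r ∈ R, c * r * c⁻¹ ∈ R) ∧
      ∀ c : G, c * t = t * c → (∀ r ∈ R, r * c = c * r) → c ∈ R) :
    IsStronglyEmbedded Y := by
  have hzY : z ∈ Y := hC z rfl
  refine ⟨hY, ?_, fun g hg => ?_⟩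
  · have h1 : orderOf (⟨z, hzY⟩ : Y) = 2 := by
      rw [orderOf_mk]
      exact orderOf_eq_prime hz hz1
    have h2 := orderOf_dvd_natCard (⟨z, hzY⟩ : Y)
    rw [h1] at h2
    exact even_iff_two_dvd.mpr h2
  · rw [← Nat.not_even_iff_odd, even_iff_two_dvd]
    intro h2
    have hf : Fact (Nat.Prime 2) := ⟨Nat.prime_two⟩
    obtain ⟨⟨t, ht⟩, ht2⟩ := exists_prime_orderOf_dvd_card' 2 h2
    rw [orderOf_mk] at ht2
    have ht1 : t ≠ 1 := by
      rintro rfl
      rw [orderOf_one] at ht2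
      exact absurd ht2 (by norm_num)
    have ht3 : t ^ 2 = 1 := ht2 ▸ pow_orderOf_eq_one t
    obtain ⟨hY1, hY2⟩ := ht
    have hY3 : g⁻¹ * t * g ∈ Y := by
      obtain ⟨x, hx, hxt⟩ := hY2
      have e : g⁻¹ * t * g = x := by
        rw [← hxt]
        simp [MulAut.conj_apply, mul_assoc]
      rw [e]
      exact hx
    obtain ⟨R, hR1, hR2, hR3, hR4⟩ := hR t ht3 ht1
    obtain ⟨h₁, h3, h4⟩ := exists_rep S hS hz hC hcl ht3 hR1 hR3 (g := 1) (by simpa using hY1)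
    obtain ⟨h₂, h5, h6⟩ := exists_rep S hS hz hC hcl ht3 hR1 hR3 (g := g) hY3
    have h7 : h₁ * z * h₁⁻¹ ∈ R := hR4 _ (h4 t hR2).symm h4
    have h8 := mem_of_commute hC hcl (g := h₁) (h := h₂) (h6 _ h7)
    rw [inv_one, one_mul] at h3
    have h9 := Y.mul_mem (Y.mul_mem h3 h8) (Y.inv_mem h5)
    have e : h₁ * (h₁⁻¹ * h₂) * (g⁻¹ * h₂)⁻¹ = g := by group
    rw [e] at h9
    exact hg h9

/-- **THEOREM SE** (helper999): `G` of characteristic 2 type, `z` a central involution of a Sylow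
2-subgroup `S`, `C_G(z) ≤ Y < G` and `z^G ∩ Y = z^Y`. Then `Y` is strongly embedded. -/
theorem strong (hG : IsCharacteristicTwoType G) (S : Sylow 2 G) {z : G}
    (hS : (S : Subgroup G) ≤ centralizer ({z} : Set G)) (hz : z ^ 2 = 1) (hz1 : z ≠ 1)
    {Y : Subgroup G} (hY : Y ≠ ⊤) (hC : centralizer ({z} : Set G) ≤ Y)
    (hcl : ∀ g : G, g * z * g⁻¹ ∈ Y → ∃ y ∈ Y, g * z * g⁻¹ = y * z * y⁻¹) :
    IsStronglyEmbedded Y := by
  refine strong_of S (fun s hs => mem_centralizer_singleton_iff.mp (hS hs)) hz hz1 hY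
    (fun c hc => hC (mem_centralizer_singleton_iff.mpr hc)) hcl fun t ht ht1 => ?_
  have h1 := char2_centralizer hG ht ht1
  refine ⟨o2 (centralizer ({t} : Set G)), o2_isPGroup _, ?_, fun c hc r hr => ?_,
    fun c hc hcr => ?_⟩
  · have h2 : zpowers t ≤ o2 (centralizer ({t} : Set G)) := by
      refine le_o2 ?_ (isPGroup_zpowers ht) ?_
      · rw [zpowers_le, mem_centralizer_singleton_iff]
      · rw [normalizer_zpowers_eq ht]
    exact h2 (mem_zpowers t)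
  · have h2 := le_normalizer_o2 (centralizer ({t} : Set G))
      (mem_centralizer_singleton_iff.mpr hc)
    exact (mem_normalizer_iff.mp h2 r).mp hr
  · exact h1 ⟨mem_centralizer_singleton_iff.mpr hc, mem_centralizer_iff.mpr fun r hr => hcr r hr⟩

end Cfsg.Agent.Omega.SE

end

section


/-!
# THEOREM SE and Bender's theorem

`le_normalizer_of_split` : a strongly embedded subgroup `Y ≥ S` of a simple group, with the normal
subgroup of Bender's theorem (`StrongEmb.Strong.exists_isSplit` gives it), normalises `S`.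
`eq_top_of_split` : in the situation of THEOREM SE, `Y = G` if `Y` does not normalise `S`
(`hB` = `fun H hH => StrongEmb.Strong.exists_isSplit hna H hH`).
-/

set_option autoImplicit false

namespace Cfsg.Agent.Omega.SE

open Subgroup Cfsg Cfsg.Agent.StrongEmb.Split Cfsg.Agent.StrongEmb.TwoRank

universe u

variable {G : Type u} [Group G] [Finite G] [IsSimpleGroup G]

theorem le_normalizer_of_split (hna : ∃ a b : G, a * b ≠ b * a) (S : Sylow 2 G) {Y : Subgroup G}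
    (hSY : (S : Subgroup G) ≤ Y) (hY : IsStronglyEmbedded Y) (hr : CommPair G)
    (hB : ∃ Q : Subgroup G, IsSplit Y Q) : Y ≤ normalizer ((S : Subgroup G) : Set G) := by
  have hf : Fact (Nat.Prime 2) := ⟨Nat.prime_two⟩
  obtain ⟨Q, hQ⟩ := hB
  obtain ⟨h1, h2⟩ := isPGroup_of_isSplit hY hQ hr
  have h3 : (S : Subgroup G) ≤ Q := by
    intro s hs
    obtain ⟨n, hn⟩ := IsPGroup.iff_orderOf.mp S.isPGroup' ⟨s, hs⟩
    exact h2 s (hSY hs) ⟨n, by rwa [Subgroup.orderOf_mk] at hn⟩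
  have h4 : Q = (S : Subgroup G) := S.is_maximal' h1 h3
  intro y hy
  rw [mem_normalizer_iff]
  intro x
  rw [← h4]
  refine ⟨fun hx => hQ.conj_mem hy hx, fun hx => ?_⟩
  have h5 := hQ.conj_mem (Y.inv_mem hy) hx
  have e : y⁻¹ * (y * x * y⁻¹) * (y⁻¹)⁻¹ = x := by group
  rwa [e] at h5

/-- **THEOREM SE with Bender**: `Y = G` if `Y` does not normalise `S`. -/
theorem eq_top_of_split (hna : ∃ a b : G, a * b ≠ b * a) (hG : IsCharacteristicTwoType G)
    (S : Sylow 2 G) {z : G} (hS : (S : Subgroup G) ≤ centralizer ({z} : Set G)) (hz : z ^ 2 = 1)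
    (hz1 : z ≠ 1) {Y : Subgroup G} (hC : centralizer ({z} : Set G) ≤ Y)
    (hcl : ∀ g : G, g * z * g⁻¹ ∈ Y → ∃ y ∈ Y, g * z * g⁻¹ = y * z * y⁻¹)
    (hr : CommPair G) (hB : ∀ H : Subgroup G, IsStronglyEmbedded H → ∃ Q : Subgroup G, IsSplit H Q)
    (hn : ¬ Y ≤ normalizer ((S : Subgroup G) : Set G)) : Y = ⊤ := by
  by_contra hY
  have h1 := strong hG S hS hz hz1 hY hC hcl
  exact hn (le_normalizer_of_split hna S (hS.trans hC) h1 hr (hB Y h1))

end Cfsg.Agent.Omega.SE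

end

section


/-!
# The end of EH3 by LEMMA CC and THEOREM SE (#12990, #12471; omega job 260)

`Q = O₂(C_G(z))` large extraspecial, `C_G(z) ≤ Y`, and every conjugate of `z` in `Q` is a
`Y`-conjugate of `z` (`hadj`; e.g. `Y` = stabiliser of a connected component of the graph
`r ~ s ↔ s ∈ Q_r` on `z^G`, or `Y = ⟨C_G(z), N_G(⟨z,a⟩)⟩` if `C_G(z)` is transitive on
`z^G ∩ Q - {z}`).

* `Far Q z g` : `s = z^g` commutes with `z`, `s ∉ Q`, and `Q ∩ Q_s` contains no conjugate of `z`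
  (this is the hypothesis of LEMMA CC: commuting, in different components);
* `mem_class_or_far` : a conjugate of `z` commuting with `z` is in `z^Y` or `Far`;
* `class_eq` : if nothing is `Far`, `z^G ∩ Y = z^Y`;
* `Far.two` : `Far` gives helper71's `LargeExtra.CC.Two` for `(Q, Q_s, z, s)`;
* `Far.card` : LEMMA CC for a `Far` pair;
* `eq_top` : if nothing is `Far`, `G` is simple of characteristic 2 type and `Q` contains a conjugate
  `≠ z` of `z`, then `Y = G` (`hB` = Bender, `fun H hH => (StrongEmb.Strong.exists_isSplit hna H hH)`).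
-/

set_option autoImplicit false

namespace Cfsg.Agent.Omega.EH3.CCTop

open Subgroup Cfsg Cfsg.Agent.Co2Type.Quad Cfsg.Agent.LargeExtra.Base

universe u

variable {G : Type u} [Group G] {Q : Subgroup G} {z : G}

/-- `s = g z g⁻¹` commutes with `z`, lies outside `Q`, and no conjugate of `z` lies in
`Q ∩ Q_s`. -/
structure Far (Q : Subgroup G) (z g : G) : Prop where
  comm : (g * z * g⁻¹) * z = z * (g * z * g⁻¹)
  notMem : g * z * g⁻¹ ∉ Q
  noCommon : ∀ k : G, k * z * k⁻¹ ∈ Q →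
    k * z * k⁻¹ ∉ Q.map (MulAut.conj g).toMonoidHom

theorem Far.two (h : Large Q z) {g : G} (hf : Far Q z g) :
    Cfsg.Agent.LargeExtra.CC.Two Q (Q.map (MulAut.conj g).toMonoidHom) z (g * z * g⁻¹)
      (fun x => ∃ k : G, k * z * k⁻¹ = x) where
  lr := h
  ls := h.conj g
  comm := hf.comm
  hr := fun hz => hf.noCommon 1 (by simpa using h.z_mem) (by simpa using hz)
  hs := hf.notMem
  conj := by
    rintro c x ⟨k, rfl⟩
    exact ⟨c * k, by group⟩
  Pr := ⟨1, by group⟩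
  Ps := ⟨g, rfl⟩
  none := by
    rintro x hx hx' ⟨k, rfl⟩
    exact hf.noCommon k hx hx'

theorem mem_map_conj {g x : G} : x ∈ Q.map (MulAut.conj g).toMonoidHom ↔ g⁻¹ * x * g ∈ Q := by
  constructor
  · rintro ⟨y, hy, rfl⟩
    have e : g⁻¹ * (MulAut.conj g).toMonoidHom y * g = y := by
      show g⁻¹ * (g * y * g⁻¹) * g = y
      group
    rw [e]; exact hy
  · intro h
    exact ⟨_, h, by show g * (g⁻¹ * x * g) * g⁻¹ = x; group⟩

/-- symmetry of `~`. -/
theorem adj_symm (h : Large Q z) {g k : G}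
    (h1 : k * z * k⁻¹ ∈ Q.map (MulAut.conj g).toMonoidHom) :
    g * z * g⁻¹ ∈ Q.map (MulAut.conj k).toMonoidHom := by
  rw [mem_map_conj] at h1 ⊢
  have e1 : g⁻¹ * (k * z * k⁻¹) * g = (g⁻¹ * k) * z * (g⁻¹ * k)⁻¹ := by group
  rw [e1] at h1
  have e2 : k⁻¹ * (g * z * g⁻¹) * k = (g⁻¹ * k)⁻¹ * z * (g⁻¹ * k) := by group
  rw [e2]
  by_cases hne : (g⁻¹ * k) * z * (g⁻¹ * k)⁻¹ = z
  · have e3 : (g⁻¹ * k)⁻¹ * z * (g⁻¹ * k) = z := by
      nth_rewrite 1 [← hne]; group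
    rw [e3]; exact h.z_mem
  · exact mem_map_conj.1 (pair_of_conj h h1 hne).z_mem

section

variable {Y : Subgroup G} (h : Large Q z)
  (hadj : ∀ g : G, g * z * g⁻¹ ∈ Q → ∃ y ∈ Y, g * z * g⁻¹ = y * z * y⁻¹)
include h hadj

/-- the class `z^Y` is closed under `~`. -/
theorem adj_closed {y g : G} (hy : y ∈ Y)
    (h1 : g * z * g⁻¹ ∈ Q.map (MulAut.conj y).toMonoidHom) :
    ∃ y' ∈ Y, g * z * g⁻¹ = y' * z * y'⁻¹ := by
  have _ := h
  rw [mem_map_conj] at h1
  have e1 : y⁻¹ * (g * z * g⁻¹) * y = (y⁻¹ * g) * z * (y⁻¹ * g)⁻¹ := by group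
  rw [e1] at h1
  obtain ⟨y', hy', h2⟩ := hadj _ h1
  refine ⟨y * y', Y.mul_mem hy hy', ?_⟩
  calc g * z * g⁻¹ = y * ((y⁻¹ * g) * z * (y⁻¹ * g)⁻¹) * y⁻¹ := by group
    _ = y * (y' * z * y'⁻¹) * y⁻¹ := by rw [h2]
    _ = _ := by group

theorem mem_class_or_far {g : G} (hc : (g * z * g⁻¹) * z = z * (g * z * g⁻¹)) :
    (∃ y ∈ Y, g * z * g⁻¹ = y * z * y⁻¹) ∨ Far Q z g := by
  by_cases hQ : g * z * g⁻¹ ∈ Q
  · exact Or.inl (hadj g hQ)
  by_cases hcom : ∃ k : G, k * z * k⁻¹ ∈ Q ∧ k * z * k⁻¹ ∈ Q.map (MulAut.conj g).toMonoidHom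
  · left
    obtain ⟨k, hk, hkg⟩ := hcom
    obtain ⟨y, hy, hky⟩ := hadj k hk
    have h1 := adj_symm h hkg
    rw [map_eq_of_conj h hky] at h1
    exact adj_closed h hadj hy h1
  · right
    push Not at hcom
    exact ⟨hc, hQ, hcom⟩

variable [Finite G]

/-- `z^G ∩ Y = z^Y`. -/
theorem class_eq (S : Sylow 2 G) (hS : (S : Subgroup G) ≤ centralizer ({z} : Set G))
    (hC : centralizer ({z} : Set G) ≤ Y) (hfar : ∀ g : G, ¬ Far Q z g) {g : G}
    (hg : g * z * g⁻¹ ∈ Y) : ∃ y ∈ Y, g * z * g⁻¹ = y * z * y⁻¹ := by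
  obtain ⟨y, hy, h1⟩ := SE.exists_conj_mem S (hS.trans hC) hg (by
    have e : (g * z * g⁻¹) ^ 2 = g * (z * z) * g⁻¹ := by simp only [sq]; group
    rw [e, h.z_sq]; group)
  have h2 := mem_centralizer_singleton_iff.1 (hS h1)
  have e1 : y⁻¹ * (g * z * g⁻¹) * y = (y⁻¹ * g) * z * (y⁻¹ * g)⁻¹ := by group
  rw [e1] at h2
  rcases mem_class_or_far h hadj (g := y⁻¹ * g) h2 with ⟨y', hy', h3⟩ | h3
  · refine ⟨y * y', Y.mul_mem hy hy', ?_⟩
    calc g * z * g⁻¹ = y * ((y⁻¹ * g) * z * (y⁻¹ * g)⁻¹) * y⁻¹ := by group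
      _ = y * (y' * z * y'⁻¹) * y⁻¹ := by rw [h3]
      _ = _ := by group
  · exact absurd h3 (hfar _)

/-- `Q ≤ S` for every Sylow 2-subgroup `S ≤ C_G(z)`. -/
theorem Q_le_S (S : Sylow 2 G) (hS : (S : Subgroup G) ≤ centralizer ({z} : Set G)) :
    Q ≤ (S : Subgroup G) := by
  have _ := hadj
  have hn : (S : Subgroup G) ≤ normalizer (Q : Set G) := by
    intro s hs
    have h1 := mem_centralizer_singleton_iff.1 (hS hs)
    rw [mem_normalizer_iff]
    intro x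
    refine ⟨fun hx => h.conj_mem s h1 x hx, fun hx => ?_⟩
    have h2 : s⁻¹ * z = z * s⁻¹ := by
      have : Commute s z := h1
      exact this.inv_left.eq
    have h3 := h.conj_mem s⁻¹ h2 _ hx
    have e : s⁻¹ * (s * x * s⁻¹) * (s⁻¹)⁻¹ = x := by group
    rwa [e] at h3
  have h1 : IsPGroup 2 ((S : Subgroup G) ⊔ Q : Subgroup G) :=
    IsPGroup.to_sup_of_normal_right' S.isPGroup' (isPGroup h) hn
  have h2 := S.is_maximal' h1 le_sup_left
  rw [← h2]
  exact le_sup_right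

/-- `Y` is not 2-closed. -/
theorem not_le_normalizer (S : Sylow 2 G) (hS : (S : Subgroup G) ≤ centralizer ({z} : Set G))
    {g : G} (hin : g * z * g⁻¹ ∈ Q) (hne : g * z * g⁻¹ ≠ z) :
    ¬ Y ≤ normalizer ((S : Subgroup G) : Set G) := by
  intro hn
  obtain ⟨y, hy, h1⟩ := hadj g hin
  rw [h1] at hin hne
  have hQS := Q_le_S h hadj S hS
  -- `y z y⁻¹` is central in `S`
  have h2 : ∀ x ∈ Q, (y * z * y⁻¹) * x = x * (y * z * y⁻¹) := by
    intro x hx
    have h3 : y⁻¹ * x * y ∈ (S : Subgroup G) := by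
      have h4 : y⁻¹ ∈ normalizer ((S : Subgroup G) : Set G) := inv_mem (hn hy)
      have := (mem_normalizer_iff.1 h4 x).1 (hQS hx)
      simpa using this
    have h5 := mem_centralizer_singleton_iff.1 (hS h3)
    calc (y * z * y⁻¹) * x = y * (z * (y⁻¹ * x * y)) * y⁻¹ := by group
      _ = y * ((y⁻¹ * x * y) * z) * y⁻¹ := by rw [h5]
      _ = _ := by group
  rcases h.cent _ hin h2 with h3 | h3
  · have h4 : z = 1 := by
      have : z = y⁻¹ * (y * z * y⁻¹) * y := by group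
      rw [this, h3]; group
    exact h.z_ne h4
  · exact hne h3

variable [IsSimpleGroup G]

/-- **THE END BY LEMMA CC**: if no commuting conjugate of `z` is `Far`, then `Y = G`. -/
theorem eq_top (hG : IsCharacteristicTwoType G) (S : Sylow 2 G)
    (hS : (S : Subgroup G) ≤ centralizer ({z} : Set G))
    (hC : centralizer ({z} : Set G) ≤ Y) (hfar : ∀ g : G, ¬ Far Q z g) {g : G}
    (hin : g * z * g⁻¹ ∈ Q) (hne : g * z * g⁻¹ ≠ z)
    (hB : ∀ H : Subgroup G, IsStronglyEmbedded H →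
      ∃ R : Subgroup G, Cfsg.Agent.StrongEmb.Split.IsSplit H R) : Y = ⊤ := by
  have hz2 : z ^ 2 = 1 := by rw [pow_two]; exact h.z_sq
  obtain ⟨y, hy, hyc⟩ := exists_not_comm h hin (h.conj g).z_ne hne
  have hna : ∃ a b : G, a * b ≠ b * a := by
    refine ⟨y, g * z * g⁻¹, fun hc => ?_⟩
    rw [hyc] at hc
    exact h.z_ne (mul_eq_left.1 hc)
  have hr : Cfsg.Agent.StrongEmb.TwoRank.CommPair G :=
    ⟨g * z * g⁻¹, z, orderOf_z (h.conj g), orderOf_z h, hne, h.comm_z _ hin⟩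
  exact SE.eq_top_of_split hna hG S hS hz2 h.z_ne hC
    (fun g hg => class_eq h hadj S hS hC hfar hg) hr hB
    (not_le_normalizer h hadj S hS hin hne)

end

end Cfsg.Agent.Omega.EH3.CCTop

end

section


/-!
# The closing theorem, group part (helper805)

`M' ∈ L(S)` not contained in `Y` gives `m ∈ M'` and `V = ⟨z^M'⟩` in the situation `Quad.Out`.
-/

set_option autoImplicit false

namespace Cfsg.Agent.Omega.EH3Close.OutLoc

open Subgroup Cfsg Cfsg.Agent.Co2Type.Quad Cfsg.Agent.LargeExtra.Base Cfsg.Agent.ZN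
open Cfsg.Agent.Omega.MinPar (IsLoc)
open Cfsg.Agent.MinSimple.VModule (le_normalizer_o2)
open Cfsg.Agent.Omega.EH3.CCTop

variable {G : Type*} [Group G] [Finite G] {Q : Subgroup G} {z : G}

theorem exists_out (hG : IsCharacteristicTwoType G) (lz : Large Q z) {Y : Subgroup G}
    (hadj : ∀ g : G, g * z * g⁻¹ ∈ Q → ∃ y ∈ Y, g * z * g⁻¹ = y * z * y⁻¹) (hC : centralizer ({z} : Set G) ≤ Y)
    (S : Sylow 2 G) (hS : (S : Subgroup G) ≤ centralizer ({z} : Set G)) {M' : Subgroup G}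
    (hM : IsLoc (S : Subgroup G) M') (hn : ¬ M' ≤ Y) :
    ∃ m ∈ M', ∃ V : Subgroup G, Quad.Out Q z V m ∧ V ≤ (S : Subgroup G) ∧
      ∀ s ∈ (S : Subgroup G), ∀ v ∈ V, s * v * s⁻¹ ∈ V := by
  have hQS := Q_le_S lz hadj S hS
  have hzS : z ∈ (S : Subgroup G) := hQS lz.z_mem
  have hzM : z ∈ M' := hM.le hzS
  have hRS := IsLoc.o2_le S hM
  have hRn : ∀ m ∈ M', ∀ r, r ∈ o2 M' → m * r * m⁻¹ ∈ o2 M' := fun m hm r hr =>
    (mem_normalizer_iff.1 (le_normalizer_o2 M' hm) r).1 hr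
  have hzc : ∀ r ∈ o2 M', z * r = r * z := fun r hr => (mem_centralizer_singleton_iff.1 (hS (hRS hr))).symm
  have hzR : z ∈ o2 M' := IsLoc.char2 S hG hM ⟨hzM, mem_centralizer_iff.2 fun r hr => (hzc r hr).symm⟩
  set V : Subgroup G := closure {x | ∃ m ∈ M', m * z * m⁻¹ = x} with hV
  have hgen : ∀ m ∈ M', m * z * m⁻¹ ∈ V := fun m hm => subset_closure ⟨m, hm, rfl⟩
  have hVR : V ≤ o2 M' := by
    rw [hV, closure_le]
    rintro _ ⟨m, hm, rfl⟩
    exact hRn m hm z hzR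
  have hVc : ∀ v ∈ V, ∀ r ∈ o2 M', v * r = r * v := by
    intro v hv
    rw [hV] at hv
    induction hv using Subgroup.closure_induction with
    | mem x hx =>
      obtain ⟨m, hm, rfl⟩ := hx
      intro r hr
      have h1 := hRn _ (inv_mem hm) r hr
      rw [inv_inv] at h1
      have h2 := hzc _ h1
      calc m * z * m⁻¹ * r = m * (z * (m⁻¹ * r * m)) * m⁻¹ := by group
        _ = m * ((m⁻¹ * r * m) * z) * m⁻¹ := by rw [h2]
        _ = r * (m * z * m⁻¹) := by group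
    | one => intro r _; rw [one_mul, mul_one]
    | mul x y _ _ hx hy => intro r hr; rw [mul_assoc, hy r hr, ← mul_assoc, hx r hr, mul_assoc]
    | inv x _ hx =>
      intro r hr
      have h1 : Commute x r := hx r hr
      exact h1.inv_left.eq
  have hVn : ∀ m ∈ M', ∀ v ∈ V, m * v * m⁻¹ ∈ V := by
    intro m hm v hv
    rw [hV] at hv
    induction hv using Subgroup.closure_induction with
    | mem x hx =>
      obtain ⟨k, hk, rfl⟩ := hx
      have e : m * (k * z * k⁻¹) * m⁻¹ = (m * k) * z * (m * k)⁻¹ := by group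
      rw [e]; exact hgen _ (mul_mem hm hk)
    | one => rw [mul_one, mul_inv_cancel]; exact one_mem _
    | mul x y _ _ hx hy =>
      have e : m * (x * y) * m⁻¹ = (m * x * m⁻¹) * (m * y * m⁻¹) := by group
      rw [e]; exact mul_mem hx hy
    | inv x _ hx =>
      have e : m * x⁻¹ * m⁻¹ = (m * x * m⁻¹)⁻¹ := by group
      rw [e]; exact inv_mem hx
  obtain ⟨m, hm, hmY⟩ := Set.not_subset.1 hn
  have hVS : V ≤ (S : Subgroup G) := hVR.trans hRS
  refine ⟨m, hm, V, ?_, hVS, fun s hs v hv => hVn s (hM.le hs) v hv⟩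
  have hzV : z ∈ V := by
    have := hgen 1 (one_mem _)
    rwa [one_mul, inv_one, mul_one] at this
  have hfar : Far Q z m := by
    have h1 : (m * z * m⁻¹) * z = z * (m * z * m⁻¹) := hVc _ (hgen m hm) z hzR
    rcases mem_class_or_far lz hadj h1 with ⟨y, hy, e⟩ | h2
    · exfalso
      apply hmY
      have h2 : y⁻¹ * m ∈ centralizer ({z} : Set G) := by
        rw [mem_centralizer_singleton_iff]
        calc y⁻¹ * m * z = y⁻¹ * (m * z * m⁻¹) * m := by group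
          _ = y⁻¹ * (y * z * y⁻¹) * m := by rw [e]
          _ = z * (y⁻¹ * m) := by group
      have h3 := Y.mul_mem hy (hC h2)
      rwa [mul_inv_cancel_left] at h3
    · exact h2
  exact
    { lz := lz
      comm := fun x hx y hy => hVc x hx y (hVR hy)
      zV := hzV
      norm := fun q hq v hv => hVn q (hM.le (hQS hq)) v hv
      mV := fun v hv => hVn m hm v hv
      none := by
        intro x hx hx' hcon
        obtain ⟨k, rfl⟩ := isConj_iff.1 hcon
        exact hfar.noCommon k hx (mem_map_conj.2 hx') }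

end Cfsg.Agent.Omega.EH3Close.OutLoc

end
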